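import Groth.Agent.H22.IndColim.Main
import Groth.Agent.Lib.DerivedOX.Grothendieck
import Mathlib.CategoryTheory.Adjunction.AdjointFunctorTheorems

/-!
# Ind-coherent modules form a coreflective subcategory (helper22)
-/

set_option autoImplicit false
set_option maxHeartbeats 1000000
set_option linter.style.haveILetI false

universe u

open CategoryTheory CategoryTheory.Limits AlgebraicGeometry TopologicalSpace Opposite
open Groth.Agent.H30 Groth.Agent.H30.RealLimSec Groth.Agent.Lib.EtMod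

namespace Groth.Agent.H22.IndColim

theorem wellPowered_op_of_ι {C : Type (u + 1)} [Category.{u} C] (P : ObjectProperty C)
    [WellPowered.{u} Cᵒᵖ] [P.ι.PreservesEpimorphisms] :
    WellPowered.{u} P.FullSubcategoryᵒᵖ where
  subobject_small X := by
    have hmono : ∀ {A : P.FullSubcategoryᵒᵖ} (f : A ⟶ X), Mono f → Mono (P.ι.op.map f) := by
      intro A f hf
      haveI : Epi f.unop := inferInstance
      exact inferInstanceAs (Mono (P.ι.map f.unop).op)
    let Φ : Subobject X → Subobject (P.ι.op.obj X) := Subobject.lift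
      (fun A f hf => @Subobject.mk _ _ _ _ (P.ι.op.map f) (hmono f hf))
      (fun A B f g hf hg i w => by
        haveI := hmono f hf
        haveI := hmono g hg
        exact Subobject.mk_eq_mk_of_comm _ _ (P.ι.op.mapIso i)
          ((P.ι.op.map_comp i.hom g).symm.trans (congrArg P.ι.op.map w)))
    refine small_of_injective (f := Φ) ?_
    intro a
    refine Subobject.ind (fun a => ∀ ⦃b⦄, Φ a = Φ b → a = b) (fun A f hf => ?_) a
    intro b
    refine Subobject.ind (fun b => Φ (Subobject.mk f) = Φ b → Subobject.mk f = b) (fun B g hg h => ?_) b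
    haveI := hmono f hf
    haveI := hmono g hg
    have h' : Subobject.mk (P.ι.op.map f) = Subobject.mk (P.ι.op.map g) := h
    let e := Subobject.isoOfMkEqMk _ _ h'
    have he : e.hom ≫ P.ι.op.map g = P.ι.op.map f := Subobject.ofMkLEMk_comp _
    refine Subobject.mk_eq_mk_of_comm f g (P.ι.op.preimageIso e) (P.ι.op.map_injective ?_)
    rw [Functor.map_comp]
    show P.ι.op.map (P.ι.op.preimage e.hom) ≫ _ = _
    rw [Functor.map_preimage, he]

variable {𝔛 : FSch.Sys.{u}} {h : 𝔛.IsFormal}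

variable (h) in
/-- The module representing sections over `W`. -/
noncomputable def jO (W : (𝔛.X 0).Opens) : FSch.ModF 𝔛 h :=
  (PresheafOfModules.sheafification (𝟙 (ModSite.ringSh (𝔛.Osh h)).obj)).obj
    ((PresheafOfModules.free (ModSite.ringSh (𝔛.Osh h)).obj).obj (yoneda.obj W))

theorem exists_section_jO (W : (𝔛.X 0).Opens) :
    ∃ η : sec h (jO h W) W, ∀ (F : FSch.ModF 𝔛 h) (x : sec h F W),
      ∃ φ : jO h W ⟶ F, secMap h φ W η = x := by
  let R := ModSite.ringSh (𝔛.Osh h)
  let adj := PresheafOfModules.sheafificationAdjunction.{u} (𝟙 R.obj)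
  refine ⟨PresheafOfModules.freeYonedaEquiv (adj.homEquiv _ _ (𝟙 (jO h W))), fun F x => ?_⟩
  refine ⟨(adj.homEquiv _ _).symm (PresheafOfModules.freeYonedaEquiv.symm x), ?_⟩
  have h1 := adj.homEquiv_naturality_right (𝟙 (jO h W))
    ((adj.homEquiv _ _).symm (PresheafOfModules.freeYonedaEquiv.symm x))
  have h2 := ((congrArg (adj.homEquiv _ _) (Category.id_comp _)).symm.trans h1).symm.trans
    (Equiv.apply_symm_apply _ _)
  exact (congrArg PresheafOfModules.freeYonedaEquiv h2).trans (Equiv.apply_symm_apply _ x)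

variable (h𝔛 : 𝔛.IsLocNoethFormal)

/-- All coherent modules are quotients of one module. -/
theorem exists_cover :
    ∃ U₀ : FSch.ModF 𝔛 h𝔛.1, ∀ T : FSch.ModF 𝔛 h𝔛.1, FSch.IsCohF 𝔛 h𝔛.1 T →
      ∃ φ : U₀ ⟶ T, Epi φ := by
  classical
  let S : (𝔛.X 0).affineOpens × ℕ → FSch.ModF 𝔛 h𝔛.1 := fun p => jO h𝔛.1 p.1.1
  refine ⟨∐ S, fun T hT => ?_⟩
  choose n f hf using fun W : (𝔛.X 0).affineOpens => CohCons.exists_fin_gens h𝔛 W.2 hT
  choose η hη using fun W : (𝔛.X 0).affineOpens => exists_section_jO (h := h𝔛.1) W.1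
  choose ψ hψ using fun (W : (𝔛.X 0).affineOpens) (k : Fin (n W)) => hη W T (f W k)
  let φ : ∐ S ⟶ T := Sigma.desc fun p => if e : p.2 < n p.1 then ψ p.1 ⟨p.2, e⟩ else 0
  refine ⟨φ, CohCons.epi_of_surjective φ fun V x => ?_⟩
  obtain ⟨a, ha⟩ := hf V x
  refine ⟨∑ k, a k • secMap h𝔛.1 (Sigma.ι S (V, k.1)) V.1 (η V), ?_⟩
  rw [ha, map_sum]
  refine Finset.sum_congr rfl fun k _ => ?_
  rw [map_smul, ← secMap_comp]
  refine congrArg (a k • ·) ?_
  rw [show Sigma.ι S (V, k.1) ≫ φ = ψ V k from (Sigma.ι_desc _ _).trans (dif_pos k.2)]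
  exact hψ V k

/-- The inclusion of ind-coherent modules has a right adjoint. -/
theorem isLeftAdjoint_ι :
    (ObjectProperty.ind.{u} fun 𝔊 : FSch.ModF 𝔛 h𝔛.1 =>
      FSch.IsCohF 𝔛 h𝔛.1 𝔊).ι.IsLeftAdjoint := by
  let P := ObjectProperty.ind.{u} fun 𝔊 : FSch.ModF 𝔛 h𝔛.1 => FSch.IsCohF 𝔛 h𝔛.1 𝔊
  haveI : ∀ (J : Type u) [SmallCategory J], P.IsClosedUnderColimitsOfShape J :=
    fun J _ => isClosedUnderColimitsOfShape h𝔛 J
  haveI : HasColimitsOfSize.{u, u} P.FullSubcategory := ⟨fun _ _ => inferInstance⟩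
  haveI : PreservesColimitsOfSize.{u, u} P.ι := ⟨fun {J} {_} => ⟨fun {K} => preservesColimit_of_createsColimit_and_hasColimit K P.ι⟩⟩
  haveI := Groth.Agent.Lib.DerivedOX.Grothendieck.isGrothendieckAbelian_sheafOfModules
    (ModSite.ringSh (𝔛.Osh h𝔛.1))
  haveI : WellPowered.{u} (FSch.ModF 𝔛 h𝔛.1) := inferInstance
  haveI := Abelian.wellPowered_opposite (C := FSch.ModF 𝔛 h𝔛.1)
  haveI : P.ι.PreservesEpimorphisms := inferInstance
  haveI := wellPowered_op_of_ι P
  obtain ⟨U₀, hU₀⟩ := exists_cover h𝔛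
  let κ : Type u := Shrink.{u} {S : Subobject U₀ // P (cokernel S.arrow)}
  let g : κ → P.FullSubcategory := fun k =>
    ⟨cokernel ((equivShrink _).symm k).1.arrow, ((equivShrink _).symm k).2⟩
  have hsep : (ObjectProperty.ofObj g).IsSeparating := by
    intro F G a b hab
    obtain ⟨J, _, _, pres, hp⟩ := F.property
    refine P.hom_ext (pres.isColimit.hom_ext fun j => ?_)
    obtain ⟨φ, _⟩ := hU₀ _ (hp j)
    let K : Subobject U₀ := Subobject.mk (kernel.ι φ)
    let e : cokernel K.arrow ≅ pres.diag.obj j :=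
      cokernelIsoOfEq (Subobject.underlyingIso_hom_comp_eq_mk (kernel.ι φ)).symm ≪≫
        cokernelEpiComp _ _ ≪≫ (cokernelIsCokernel (kernel.ι φ)).coconePointUniqueUpToIso
          (Abelian.epiIsCokernelOfKernel _ (limit.isLimit (parallelPair φ 0)))
    have hK : P (cokernel K.arrow) :=
      ObjectProperty.prop_of_iso _ e.symm (ObjectProperty.le_ind _ _ (hp j))
    let k : κ := equivShrink _ ⟨K, hK⟩
    have hk : (g k).obj = cokernel K.arrow := by
      exact congrArg (fun t : {S : Subobject U₀ // P (cokernel S.arrow)} => cokernel t.1.arrow) (Equiv.symm_apply_apply _ _)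
    have h1 := congrArg (fun t => P.ι.map t)
      (hab (g k) ⟨k⟩ (ObjectProperty.homMk (eqToHom hk ≫ e.hom ≫ pres.ι.app j)))
    simp only [Functor.map_comp] at h1
    change (eqToHom hk ≫ e.hom ≫ pres.ι.app j) ≫ a.hom =
      (eqToHom hk ≫ e.hom ≫ pres.ι.app j) ≫ b.hom at h1
    simp only [Category.assoc, cancel_epi] at h1
    exact h1
  exact isLeftAdjoint_of_preservesColimits_of_isSeparating hsep P.ι

end Groth.Agent.H22.IndColim
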