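import Groth.Agent.H22.IndColim.Extension
import Mathlib.Algebra.Homology.ExactSequence

/-!
# Five-term exact sequences of ind-coherent modules (helper22)
-/

set_option autoImplicit false
set_option maxHeartbeats 1000000
set_option linter.style.haveILetI false

universe u

open CategoryTheory CategoryTheory.Limits AlgebraicGeometry TopologicalSpace Opposite
open Groth.Agent.H30 Groth.Agent.H30.RealLimSec

namespace Groth.Agent.H22.IndColim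

variable {𝔛 : FSch.Sys.{u}} (h𝔛 : 𝔛.IsLocNoethFormal)

/-- Cokernels of maps of ind-coherent modules are ind-coherent. -/
theorem ind_cokernel {X Y : FSch.ModF 𝔛 h𝔛.1}
    (hX : (ObjectProperty.ind.{u} fun 𝔊 : FSch.ModF 𝔛 h𝔛.1 => FSch.IsCohF 𝔛 h𝔛.1 𝔊) X)
    (hY : (ObjectProperty.ind.{u} fun 𝔊 : FSch.ModF 𝔛 h𝔛.1 => FSch.IsCohF 𝔛 h𝔛.1 𝔊) Y)
    (φ : X ⟶ Y) :
    (ObjectProperty.ind.{u} fun 𝔊 : FSch.ModF 𝔛 h𝔛.1 => FSch.IsCohF 𝔛 h𝔛.1 𝔊) (cokernel φ) := by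
  obtain ⟨hgX, -⟩ := of_ind h𝔛 hX
  obtain ⟨-, hqY⟩ := of_ind h𝔛 hY
  obtain ⟨J, _, _, pres, hp⟩ := hY
  obtain ⟨K, hK, hK', p', hp', -⟩ := exists_presentation h𝔛 (fun j : J => pres.diag.obj j) hp
    (cokernel.π φ) (Q.cokernel hgX hqY φ) (fun j => pres.ι.app j)
    fun a b hab => coequalizer.hom_ext (pres.isColimit.hom_ext fun j =>
      (Category.assoc _ _ _).symm.trans ((hab j).trans (Category.assoc _ _ _)))
  exact ⟨K, hK, hK', p', hp'⟩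

variable [CompactSpace (𝔛.X 0)]

/-- The middle term of a five-term exact sequence. -/
theorem ind_exact_five (S : ComposableArrows (FSch.ModF 𝔛 h𝔛.1) 4) (hS : S.Exact)
    (h₀ : (ObjectProperty.ind.{u} fun 𝔊 : FSch.ModF 𝔛 h𝔛.1 => FSch.IsCohF 𝔛 h𝔛.1 𝔊) (S.obj 0))
    (h₁ : (ObjectProperty.ind.{u} fun 𝔊 : FSch.ModF 𝔛 h𝔛.1 => FSch.IsCohF 𝔛 h𝔛.1 𝔊) (S.obj 1))
    (h₃ : (ObjectProperty.ind.{u} fun 𝔊 : FSch.ModF 𝔛 h𝔛.1 => FSch.IsCohF 𝔛 h𝔛.1 𝔊) (S.obj 3))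
    (h₄ : (ObjectProperty.ind.{u} fun 𝔊 : FSch.ModF 𝔛 h𝔛.1 => FSch.IsCohF 𝔛 h𝔛.1 𝔊) (S.obj 4)) :
    (ObjectProperty.ind.{u} fun 𝔊 : FSch.ModF 𝔛 h𝔛.1 => FSch.IsCohF 𝔛 h𝔛.1 𝔊) (S.obj 2) := by
  let s₁ := S.sc' hS.toIsComplex 0 1 2
  let s₂ := S.sc' hS.toIsComplex 1 2 3
  let s₃ := S.sc' hS.toIsComplex 2 3 4
  have e₁ : s₁.Exact := hS.exact' 0 1 2
  have e₂ : s₂.Exact := hS.exact' 1 2 3
  have e₃ : s₃.Exact := hS.exact' 2 3 4
  let f : cokernel s₁.f ⟶ s₂.X₂ := cokernel.desc s₁.f s₁.g s₁.zero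
  let g : s₂.X₂ ⟶ kernel s₃.g := kernel.lift s₃.g s₃.f s₃.zero
  haveI : Mono f := e₁.mono_cokernelDesc
  haveI : Epi g := e₃.epi_kernelLift
  have w : f ≫ g = 0 := coequalizer.hom_ext (equalizer.hom_ext (by
    simp only [Category.assoc, comp_zero, zero_comp]
    rw [cokernel.π_desc_assoc, kernel.lift_ι]
    exact s₂.zero))
  let T : ShortComplex (FSch.ModF 𝔛 h𝔛.1) := ShortComplex.mk f g w
  let η : s₂ ⟶ ShortComplex.mk f (g ≫ kernel.ι s₃.g) (by rw [← Category.assoc, w, zero_comp]) :=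
    { τ₁ := cokernel.π s₁.f
      τ₂ := 𝟙 _
      τ₃ := 𝟙 _
      comm₁₂ := (cokernel.π_desc _ _ _).trans (Category.comp_id _).symm
      comm₂₃ := (Category.id_comp _).trans ((kernel.lift_ι _ _ _).trans (Category.comp_id _).symm) }
  haveI : Epi η.τ₁ := inferInstanceAs (Epi (cokernel.π s₁.f))
  haveI : IsIso η.τ₂ := inferInstanceAs (IsIso (𝟙 s₂.X₂))
  haveI : Mono η.τ₃ := inferInstanceAs (Mono (𝟙 s₂.X₃))
  have e₄ := (ShortComplex.exact_iff_of_epi_of_isIso_of_mono η).1 e₂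
  let θ : T ⟶ ShortComplex.mk f (g ≫ kernel.ι s₃.g) (by rw [← Category.assoc, w, zero_comp]) :=
    { τ₁ := 𝟙 _
      τ₂ := 𝟙 _
      τ₃ := kernel.ι s₃.g
      comm₁₂ := (Category.id_comp _).trans (Category.comp_id _).symm
      comm₂₃ := Category.id_comp _ }
  haveI : Epi θ.τ₁ := inferInstanceAs (Epi (𝟙 T.X₁))
  haveI : IsIso θ.τ₂ := inferInstanceAs (IsIso (𝟙 T.X₂))
  haveI : Mono θ.τ₃ := inferInstanceAs (Mono (kernel.ι s₃.g))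
  have e₅ : T.Exact := (ShortComplex.exact_iff_of_epi_of_isIso_of_mono θ).2 e₄
  exact ind_ext h𝔛 (S := T) { exact := e₅, mono_f := ‹_›, epi_g := ‹_› }
    (ind_cokernel h𝔛 h₀ h₁ _) (ind_kernel h𝔛 h₃ h₄ _)

end Groth.Agent.H22.IndColim
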