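import Groth.Agent.H22.IndColim.Main
import Groth.Agent.S3855

/-!
# Ind-coherent modules on an affine formal scheme (helper22)
-/

set_option autoImplicit false
set_option maxHeartbeats 1000000
set_option profiler false
set_option linter.style.haveILetI false

universe u

open CategoryTheory CategoryTheory.Limits AlgebraicGeometry TopologicalSpace Opposite
open Groth.Agent.H30 Groth.Agent.H30.RealLimSec Groth.Agent.Lib.EtMod

namespace Groth.Agent.H22.IndColim

theorem _root_.Groth.Agent.H30.AbBasis.epi_of_locallySurjective {X : TopCat.{u}}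
    {F G : Sheaf (Opens.grothendieckTopology X) AddCommGrpCat.{u}} (φ : F ⟶ G)
    (hφ : Sheaf.IsLocallySurjective φ) : Epi φ :=
  haveI := hφ
  Sheaf.epi_of_isLocallySurjective φ

variable {𝔛 : FSch.Sys.{u}} {h : 𝔛.IsFormal}

/-- Kernels of maps with controlled relations are generated. -/
theorem gen_kernel {P M : FSch.ModF 𝔛 h} (hP : Gen P) {ψ : P ⟶ M} (hψ : Q ψ) :
    Gen (Limits.kernel ψ) := by
  intro W hW Z hZ y z hz
  obtain ⟨V, hVZ, hzV, hm⟩ := hP W hW Z hZ (secMap h (Limits.kernel.ι ψ) Z y) z hz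
  obtain ⟨m, a, g, hg⟩ := exists_of_mem_span_range (hVZ.trans hZ) hm
  have h0 : secMap h ψ V (∑ l, a l • CohPres.resF h P (hVZ.trans hZ) (g l)) = 0 := by
    rw [← hg, ← secMap_res, ← secMap_comp, kernel.condition]
    rfl
  obtain ⟨U, hUV, hzU, hm'⟩ := hψ W hW (Fin m) g V (hVZ.trans hZ) a h0 z hzV
  obtain ⟨n, d, r, hr, hd⟩ := exists_of_mem_span (hUV.trans (hVZ.trans hZ)) hm'
  choose t ht using fun j => CohCons.exists_kernel ψ (∑ l, r j l • g l) (hr j)
  refine ⟨U, hUV.trans hVZ, hzU, ?_⟩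
  have heq : CohPres.resF h (Limits.kernel ψ) (hUV.trans hVZ) y =
      ∑ j, d j • CohPres.resF h (Limits.kernel ψ) (hUV.trans (hVZ.trans hZ)) (t j) := by
    refine CohCons.secMap_injective (Limits.kernel.ι ψ) U ?_
    refine (secMap_res _ _ _).trans ?_
    refine Eq.trans ?_ (map_sum (secMap h (Limits.kernel.ι ψ) U) _ _).symm
    refine Eq.trans ?_ (Finset.sum_congr rfl fun j _ => (((map_smul (secMap h (Limits.kernel.ι ψ) U) _ _).trans
      (congrArg (d j • ·) ((secMap_res (Limits.kernel.ι ψ) _ (t j)).trans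
        (congrArg (CohPres.resF h P _) (ht j))))).symm))
    refine (resF_resF P hVZ hUV _).symm.trans ?_
    rw [hg, sum_res_res]
    refine (Finset.sum_congr rfl fun l _ => congrArg (· • _) (hd l)).trans ?_
    exact sum_smul_expand _ d r g
  refine Eq.subst (motive := fun x => x ∈ Submodule.span (Levels.A 𝔛 h U) _) heq.symm ?_
  exact Submodule.sum_mem _ fun j _ =>
    Submodule.smul_mem _ (d j) (Submodule.subset_span (Set.mem_range_self (t j)))

theorem Q.of_id {B C : FSch.ModF 𝔛 h} (hC : Q (𝟙 C)) (ψ : B ⟶ C) : Q ψ := by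
  intro W hW ι _ b Z hZ c hc
  refine (hC W hW ι (fun l => secMap h ψ W (b l)) Z hZ c ?_).mono fun r hr => ?_
  · rw [map_sum] at hc
    simpa only [secMap_id, map_smul, secMap_res] using hc
  · show secMap h ψ W _ = 0
    have := show secMap h (𝟙 C) W _ = 0 from hr
    simpa only [secMap_id, map_sum, map_smul] using this

/-- A generated module is a quotient of a free module. -/
theorem exists_epi_free (hW : IsAffineOpen (⊤ : (𝔛.X 0).Opens)) {M : FSch.ModF 𝔛 h}
    (hM : Gen M) :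
    ∃ (α : Type u) (g : (SheafOfModules.free α : FSch.ModF 𝔛 h) ⟶ M), Epi g := by
  let s₀ : sec h M ⊤ → SheafOfModules.sections M := fun x =>
    M.val.sectionsMk (fun Z => CohPres.resF h M le_top x)
      fun Y Z f => PresSh.res_res M (le_top) (leOfHom f.unop) x
  let g : (∐ fun _ : sec h M ⊤ => SheafOfModules.unit (ModSite.ringSh (𝔛.Osh h))) ⟶ M :=
    Sigma.desc fun x => M.unitHomEquiv.symm (s₀ x)
  refine ⟨sec h M ⊤, g, ?_⟩
  have hls : Sheaf.IsLocallySurjective ((SheafOfModules.toSheaf _).map g) := by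
    refine ⟨fun {U} s z hz => ?_⟩
    obtain ⟨V, hVU, hzV, hm⟩ := hM ⊤ hW U le_top s z hz
    obtain ⟨m, a, x, hx⟩ := exists_of_mem_span_range _ hm
    refine ⟨V, homOfLE hVU, ⟨∑ l, a l • secMap h (Sigma.ι
      (fun _ : sec h M ⊤ => SheafOfModules.unit (ModSite.ringSh (𝔛.Osh h))) (x l)) V
        (show sec h (SheafOfModules.unit (ModSite.ringSh (𝔛.Osh h))) V from (1 : Levels.A 𝔛 h V)), ?_⟩, hzV⟩
    refine Eq.trans ?_ hx.symm
    refine (map_sum (secMap h g V) _ _).trans (Finset.sum_congr rfl fun l _ => ?_)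
    rw [map_smul, ← secMap_comp, show Sigma.ι _ (x l) ≫ g = M.unitHomEquiv.symm (s₀ (x l)) from
      Sigma.ι_desc _ _]
    refine congrArg (a l • ·) ?_
    exact congrArg (fun t : M.sections => t.1 (op V))
      (Equiv.apply_symm_apply M.unitHomEquiv (s₀ (x l)))
  have hepi : Epi ((SheafOfModules.toSheaf (ModSite.ringSh (𝔛.Osh h))).map g) :=
    AbBasis.epi_of_locallySurjective _ hls
  exact (SheafOfModules.toSheaf (ModSite.ringSh (𝔛.Osh h))).epi_of_epi_map hepi

variable (A : Type u) [CommRing A] [IsNoetherianRing A] (I : Ideal A)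

/-- Ind-coherent modules on formal spectra are cokernels of maps of free modules. -/
theorem ind_spf_iff (h : (FSch.spf A I).IsFormal) (𝔉 : FSch.ModF (FSch.spf A I) h) :
    (ObjectProperty.ind.{u} fun 𝔊 : FSch.ModF (FSch.spf A I) h => FSch.IsCohF (FSch.spf A I) h 𝔊) 𝔉 ↔
      ∃ (α β : Type u) (φ : (SheafOfModules.free α : FSch.ModF (FSch.spf A I) h) ⟶ SheafOfModules.free β),
        Nonempty (cokernel φ ≅ 𝔉) := by
  have h𝔛 : (FSch.spf A I).IsLocNoethFormal := S3855.result A I
  haveI : IsLocallyNoetherian ((FSch.spf A I).X 0) := h𝔛.2.2 0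
  have hu := CohCons.isCohF_unit (h := h𝔛.1)
  have hfree : ∀ α : Type u, Gen (∐ fun _ : α => FSch.unitF (FSch.spf A I) h) ∧
      Q (𝟙 (∐ fun _ : α => FSch.unitF (FSch.spf A I) h)) := fun α =>
    coproduct _ (fun _ => gen_coh h𝔛 (hu)) fun _ => q_coh h𝔛 (hu)
  constructor
  · intro hF
    obtain ⟨hg, hq⟩ := of_ind h𝔛 hF
    have htop : IsAffineOpen (⊤ : ((FSch.spf A I).X 0).Opens) := by
      haveI : IsAffine ((FSch.spf A I).X 0) :=
        inferInstanceAs (IsAffine (Spec (CommRingCat.of (A ⧸ I ^ (0 + 1)))))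
      exact isAffineOpen_top _
    obtain ⟨β, g, _⟩ := exists_epi_free htop hg
    obtain ⟨α, g', _⟩ := exists_epi_free htop (gen_kernel (hfree β).1 (Q.of_id hq g))
    refine ⟨α, β, g' ≫ kernel.ι g, ⟨?_⟩⟩
    exact cokernelEpiComp g' (kernel.ι g) ≪≫ (cokernelIsCokernel (kernel.ι g)).coconePointUniqueUpToIso (Abelian.epiIsCokernelOfKernel _ (limit.isLimit (parallelPair g 0)))
  · rintro ⟨α, β, φ, ⟨e⟩⟩
    refine ObjectProperty.prop_of_iso _ e ?_
    obtain ⟨J, hJ, hJ', pres, hp, -⟩ := exists_presentation h𝔛 (K := β)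
      (fun _ => FSch.unitF (FSch.spf A I) h) (fun _ => hu) (cokernel.π φ)
      (Q.cokernel (hfree α).1 (hfree β).2 φ) (fun k => SheafOfModules.ιFree k)
      fun a b hab => coequalizer.hom_ext (Sigma.hom_ext _ _ fun k => by
        exact (Category.assoc _ _ _).symm.trans ((hab k).trans (Category.assoc _ _ _)))
    exact ⟨J, hJ, hJ', pres, hp⟩

end Groth.Agent.H22.IndColim
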