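import Groth.Agent.H22.IndColim.Kernel

/-!
# Extensions and five-term sequences of ind-coherent modules (helper22)
-/

set_option autoImplicit false
set_option maxHeartbeats 1000000
set_option linter.style.haveILetI false

universe u

open CategoryTheory CategoryTheory.Limits AlgebraicGeometry TopologicalSpace Opposite
open Groth.Agent.H30 Groth.Agent.H30.RealLimSec Groth.Agent.Lib.EtMod

namespace Groth.Agent.H22.IndColim

variable {𝔛 : FSch.Sys.{u}} {h : 𝔛.IsFormal}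

/-- A finite affine cover of an affine overlap. -/
theorem exists_finite_affine [IsLocallyNoetherian (𝔛.X 0)] {W W' : (𝔛.X 0).Opens} (hW : IsAffineOpen W)
    (hW' : IsAffineOpen W') :
    ∃ T : Finset (𝔛.X 0).affineOpens, (∀ O ∈ T, O.1 ≤ W ⊓ W') ∧
      ∀ z ∈ W ⊓ W', ∃ O ∈ T, z ∈ O.1 := by
  classical
  have hc : IsCompact ((W ⊓ W' : (𝔛.X 0).Opens) : Set (𝔛.X 0)) :=
    QuasiSeparatedSpace.inter_isCompact _ _ W.2 hW.isCompact W'.2 hW'.isCompact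
  choose O hO using fun z : (W ⊓ W' : (𝔛.X 0).Opens) => Opens.isBasis_iff_nbhd.1
    (CohPres.isBasis_affine (𝔛.X 0)) z.2
  obtain ⟨t, ht⟩ := hc.elim_finite_subcover (fun z : (W ⊓ W' : (𝔛.X 0).Opens) => (O z : Set (𝔛.X 0)))
    (fun z => (O z).2) fun z hz => Set.mem_iUnion.2 ⟨⟨z, hz⟩, (hO ⟨z, hz⟩).2.1⟩
  refine ⟨t.image fun z => ⟨O z, (hO z).1⟩, fun P hP => ?_, fun z hz => ?_⟩
  · obtain ⟨w, -, rfl⟩ := Finset.mem_image.1 hP
    exact (hO w).2.2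
  · obtain ⟨w, hw, hzw⟩ := Set.mem_iUnion₂.1 (ht hz)
    exact ⟨⟨O w, (hO w).1⟩, Finset.mem_image.2 ⟨w, hw, rfl⟩, hzw⟩

variable (h𝔛 : 𝔛.IsLocNoethFormal) [CompactSpace (𝔛.X 0)]

/-- Extensions of ind-coherent modules are ind-coherent. -/
theorem ind_ext {S : ShortComplex (FSch.ModF 𝔛 h𝔛.1)} (hS : S.ShortExact)
    (h₁ : (ObjectProperty.ind.{u} fun 𝔊 : FSch.ModF 𝔛 h𝔛.1 => FSch.IsCohF 𝔛 h𝔛.1 𝔊) S.X₁)
    (h₃ : (ObjectProperty.ind.{u} fun 𝔊 : FSch.ModF 𝔛 h𝔛.1 => FSch.IsCohF 𝔛 h𝔛.1 𝔊) S.X₃) :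
    (ObjectProperty.ind.{u} fun 𝔊 : FSch.ModF 𝔛 h𝔛.1 => FSch.IsCohF 𝔛 h𝔛.1 𝔊) S.X₂ := by
  classical
  haveI : IsLocallyNoetherian (𝔛.X 0) := h𝔛.2.2 0
  haveI : QuasiSeparatedSpace (𝔛.X 0) := inferInstance
  haveI : PreservesColimitsOfSize.{u, u} (SheafOfModules.toSheaf.{u} (ModSite.ringSh (𝔛.Osh h𝔛.1))) :=
    inferInstance
  haveI := hS.mono_f
  haveI := hS.epi_g
  obtain ⟨-, hq⟩ := gen_q_ext h𝔛 hS h₁ h₃
  have h₁' := h₁
  obtain ⟨J, _, _, pa, hpa⟩ := h₁'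
  obtain ⟨I, _, _, pc, hpc⟩ := h₃
  let hca := isColimitOfPreserves (SheafOfModules.toSheaf.{u} (ModSite.ringSh (𝔛.Osh h𝔛.1))) pa.isColimit
  -- a finite affine cover
  choose O hO using fun x : 𝔛.X 0 => CohCons.exists_affine (𝔛 := 𝔛) x
  obtain ⟨t, ht⟩ := isCompact_univ.elim_finite_subcover (fun x : 𝔛.X 0 => (O x : Set (𝔛.X 0)))
    (fun x => (O x).2) fun x _ => Set.mem_iUnion.2 ⟨x, (hO x).2⟩
  have main : ∀ i : I, ∃ (M : FSch.ModF 𝔛 h𝔛.1) (m : M ⟶ S.X₂), FSch.IsCohF 𝔛 h𝔛.1 M ∧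
      ∃ (n : t → ℕ) (f : ∀ a : t, Fin (n a) → sec h𝔛.1 (pc.diag.obj i) (O a.1)),
        (∀ a x, ∃ c : Fin (n a) → Levels.A 𝔛 h𝔛.1 (O a.1), x = ∑ l, c l • f a l) ∧
        ∀ a l, ∃ w, secMap h𝔛.1 S.g (O a.1) (secMap h𝔛.1 m (O a.1) w) =
          secMap h𝔛.1 (pc.ι.app i) (O a.1) (f a l) := by
    intro i
    choose n f hf using fun a : t => CohCons.exists_fin_gens h𝔛 (hO a.1).1 (hpc i)
    choose β hβ using fun (a : t) (l : Fin (n a)) =>
      surjective_of_ind h𝔛 hS h₁ (hO a.1).1 (secMap h𝔛.1 (pc.ι.app i) (O a.1) (f a l))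
    choose T hT hT' using fun p : t × t => exists_finite_affine (hO p.1.1).1 (hO p.2.1).1
    let D := Σ p : t × t, {P // P ∈ T p} × Fin (n p.1)
    have hle1 : ∀ d : D, (d.2.1.1).1 ≤ O d.1.1.1 := fun d => (hT d.1 _ d.2.1.2).trans inf_le_left
    have hle2 : ∀ d : D, (d.2.1.1).1 ≤ O d.1.2.1 := fun d => (hT d.1 _ d.2.1.2).trans inf_le_right
    choose c hc using fun d : D => CohExact.gen_of_le h𝔛 (hpc i) (hO d.1.2.1).1 (f d.1.2) (hf d.1.2)
      (d.2.1.1).2 (hle2 d) (CohPres.resF h𝔛.1 (pc.diag.obj i) (hle1 d) (f d.1.1 d.2.2))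
    choose δ hδ using fun d : D => exists_lift h𝔛 hS
      (CohPres.resF h𝔛.1 S.X₂ (hle1 d) (β d.1.1 d.2.2) -
        ∑ l, c d l • CohPres.resF h𝔛.1 S.X₂ (hle2 d) (β d.1.2 l)) (by
        rw [map_sub, map_sum]
        simp only [map_smul, secMap_res, hβ]
        rw [← secMap_res, hc d, map_sum]
        simp only [map_smul, secMap_res, sub_self])
    choose j₀ e₀ he₀ using fun d : D =>
      ColimCoh.Sections.exists_rep hca (d.2.1.1).2.isCompact (δ d)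
    obtain ⟨j, hj⟩ := IsFiltered.sup_objs_exists (Finset.univ.image j₀)
    let e : ∀ d : D, sec h𝔛.1 (pa.diag.obj j) (d.2.1.1).1 := fun d =>
      secMap h𝔛.1 (pa.diag.map (hj (Finset.mem_image_of_mem j₀ (Finset.mem_univ d))).some) _ (e₀ d)
    let ι' : pa.diag.obj j ⟶ S.X₂ := pa.ι.app j ≫ S.f
    have he : ∀ d, secMap h𝔛.1 ι' _ (e d) = CohPres.resF h𝔛.1 S.X₂ (hle1 d) (β d.1.1 d.2.2) -
        ∑ l, c d l • CohPres.resF h𝔛.1 S.X₂ (hle2 d) (β d.1.2 l) := fun d => by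
      rw [← hδ d]
      refine congrArg (secMap h𝔛.1 S.f _) ?_
      refine Eq.trans ?_ (he₀ d)
      exact congrArg (fun φ => secMap h𝔛.1 φ (d.2.1.1).1 (e₀ d))
        ((pa.ι.naturality (hj (Finset.mem_image_of_mem j₀ (Finset.mem_univ d))).some).trans
          (Category.comp_id (pa.ι.app (j₀ d))))
    let gset : ∀ Z : (𝔛.X 0).Opens, Set (sec h𝔛.1 S.X₂ Z) := fun Z =>
      {y | ∃ (a : t) (e : Z ≤ O a.1) (l : Fin (n a)), y = CohPres.resF h𝔛.1 S.X₂ e (β a l)} ∪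
        Set.range (secMap h𝔛.1 ι' Z)
    have hres : ∀ {Z Z' : (𝔛.X 0).Opens} (e' : Z' ≤ Z) (y : sec h𝔛.1 S.X₂ Z),
        y ∈ gset Z → CohPres.resF h𝔛.1 S.X₂ e' y ∈ gset Z' := by
      intro Z Z' e' y hy
      rcases hy with ⟨a, ea, l, rfl⟩ | ⟨x, rfl⟩
      · exact Or.inl ⟨a, e'.trans ea, l, resF_resF _ _ _ _⟩
      · exact Or.inr ⟨CohPres.resF h𝔛.1 _ e' x, secMap_res _ _ _⟩
    let P₀ : S.X₂.val.Submodule :=
      { obj := fun Z => Submodule.span (Levels.A 𝔛 h𝔛.1 Z.unop) (gset Z.unop)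
        map := fun {Z Z'} g y hy => by
          rw [show g = (homOfLE (leOfHom g.unop)).op from Subsingleton.elim _ _]
          change CohPres.resF h𝔛.1 S.X₂ (leOfHom g.unop) y ∈
            Submodule.span (Levels.A 𝔛 h𝔛.1 Z'.unop) (gset Z'.unop)
          have hy' : (y : sec h𝔛.1 S.X₂ Z.unop) ∈ Submodule.span (Levels.A 𝔛 h𝔛.1 Z.unop) (gset Z.unop) := hy
          obtain ⟨k, a, v, rfl⟩ := Submodule.mem_span_set'.1 hy'
          rw [sum_res]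
          exact Submodule.sum_mem _ fun q _ =>
            Submodule.smul_mem _ _ (Submodule.subset_span (hres _ _ (v q).2)) }
    let M : FSch.ModF 𝔛 h𝔛.1 := SubSheaf.closureSheaf P₀
    let m : M ⟶ S.X₂ := SubSheaf.closureι P₀
    haveI : Mono m := SubSheaf.mono_closureι P₀
    have hmem : ∀ {Z : (𝔛.X 0).Opens} (y : sec h𝔛.1 S.X₂ Z), y ∈ gset Z →
        ∃ w : sec h𝔛.1 M Z, secMap h𝔛.1 m Z w = y := fun {Z} y hy =>
      ⟨(⟨y, SubSheaf.le_closure P₀ (op Z) (Submodule.subset_span hy)⟩ :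
        (SubSheaf.closure P₀).obj (op Z)), rfl⟩
    have hloc : ∀ {Z : (𝔛.X 0).Opens} (s : sec h𝔛.1 M Z), ∀ z ∈ Z, ∃ (V : (𝔛.X 0).Opens) (hVZ : V ≤ Z),
        z ∈ V ∧ CohPres.resF h𝔛.1 S.X₂ hVZ (secMap h𝔛.1 m Z s) ∈
          Submodule.span (Levels.A 𝔛 h𝔛.1 V) (gset V) := by
      intro Z s z hz
      obtain ⟨V, g, hg, hzV⟩ := (SubSheaf.mem_closure_iff.1
        (show (s : (SubSheaf.closure P₀).obj (op Z)).1 ∈ (SubSheaf.closure P₀).obj (op Z) from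
          (s : (SubSheaf.closure P₀).obj (op Z)).2)) z hz
      exact ⟨V, leOfHom g, hzV, hg⟩
    choose w hw using fun (a : t) (l : Fin (n a)) =>
      hmem (Z := O a.1) (β a l) (Or.inl ⟨a, le_rfl, l,
        ((congrArg (fun g => S.X₂.val.map g (β a l)) (Subsingleton.elim (homOfLE (le_refl (O a.1))).op (𝟙 _))).trans
          (congrArg (fun φ => φ.hom (β a l)) (S.X₂.val.map_id (op (O a.1))))).symm⟩)
    refine ⟨M, m, ?_, n, f, hf, fun a l => ⟨w a l, by rw [hw, hβ]⟩⟩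
    refine isCohF_of_mono h𝔛 m hq fun x => ?_
    obtain ⟨x₀, hx₀, hxO⟩ := Set.mem_iUnion₂.1 (ht (Set.mem_univ x))
    let a₀ : t := ⟨x₀, hx₀⟩
    obtain ⟨k, g, hg⟩ := CohCons.exists_fin_gens h𝔛 (hO a₀.1).1 (hpa j)
    choose v hv using fun q : Fin k => hmem (secMap h𝔛.1 ι' (O a₀.1) (g q)) (Or.inr ⟨g q, rfl⟩)
    refine ⟨O a₀.1, _, fun q => Sum.elim (w a₀) v (finSumFinEquiv.symm q), hxO, (hO a₀.1).1,
      fun Z hZ s z hz => ?_⟩
    obtain ⟨V, hVZ, hzV, hm⟩ := hloc s z hz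
    obtain ⟨r, b, y, hy⟩ := Submodule.mem_span_set'.1 hm
    let G : ∀ (U : (𝔛.X 0).Opens), U ≤ O a₀.1 → Fin (n a₀) ⊕ Fin k → sec h𝔛.1 S.X₂ U :=
      fun U e q => CohPres.resF h𝔛.1 S.X₂ e (Sum.elim (β a₀) (fun q => secMap h𝔛.1 ι' (O a₀.1) (g q)) q)
    have hι : ∀ (U : (𝔛.X 0).Opens) (hU : IsAffineOpen U) (eU : U ≤ O a₀.1) (x : sec h𝔛.1 (pa.diag.obj j) U),
        secMap h𝔛.1 ι' U x ∈ Submodule.span (Levels.A 𝔛 h𝔛.1 U) (Set.range (G U eU)) := by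
      intro U hU eU x
      obtain ⟨q, rfl⟩ := CohExact.gen_of_le h𝔛 (hpa j) (hO a₀.1).1 g hg hU eU x
      rw [map_sum]
      refine Submodule.sum_mem _ fun l _ => ?_
      rw [map_smul, secMap_res]
      exact Submodule.smul_mem _ _ (Submodule.subset_span ⟨Sum.inr l, rfl⟩)
    have hy1 : ∀ q : Fin r, ∃ (U : (𝔛.X 0).Opens) (hUV : U ≤ V), z ∈ U ∧
        CohPres.resF h𝔛.1 S.X₂ hUV (y q).1 ∈ Submodule.span (Levels.A 𝔛 h𝔛.1 U)
          (Set.range (G U (hUV.trans (hVZ.trans hZ)))) := by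
      intro q
      rcases (y q).2 with ⟨a, ea, l, hl⟩ | ⟨x, hx⟩
      · obtain ⟨P, hP, hzP⟩ := hT' (a, a₀) z ⟨ea hzV, hZ hz⟩
        obtain ⟨U, hU, hzU, hUVP⟩ := Opens.isBasis_iff_nbhd.1 (CohPres.isBasis_affine (𝔛.X 0))
          (U := V ⊓ P.1) (x := z) ⟨hzV, hzP⟩
        refine ⟨U, hUVP.trans inf_le_left, hzU, ?_⟩
        let d : D := ⟨(a, a₀), ⟨P, hP⟩, l⟩
        have hUP : U ≤ (d.2.1.1).1 := hUVP.trans inf_le_right
        have h1 := congrArg (CohPres.resF h𝔛.1 S.X₂ hUP) (he d)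
        rw [map_sub, sum_res_res, resF_resF, ← secMap_res] at h1
        rw [hl, resF_resF, sub_eq_iff_eq_add.1 h1.symm]
        refine Submodule.add_mem _ (hι U hU _ _) (Submodule.sum_mem _ fun l' _ => ?_)
        exact Submodule.smul_mem _ _ (Submodule.subset_span ⟨Sum.inl l', rfl⟩)
      · obtain ⟨U, hU, hzU, hUV⟩ := Opens.isBasis_iff_nbhd.1 (CohPres.isBasis_affine (𝔛.X 0)) hzV
        refine ⟨U, hUV, hzU, ?_⟩
        rw [← hx, ← secMap_res]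
        exact hι U hU _ _
    choose U hUV hzU hmU using hy1
    obtain ⟨U₀, hU₀, hzU₀, hU₀V⟩ := Opens.isBasis_iff_nbhd.1 (CohPres.isBasis_affine (𝔛.X 0))
      (U := V ⊓ Finset.univ.inf U) (x := z)
      ⟨hzV, by
        rw [Opens.coe_finset_inf, Finset.inf_set_eq_iInter]
        exact Set.mem_iInter₂.2 fun q _ => hzU q⟩
    have hV0 : U₀ ≤ V := hU₀V.trans inf_le_left
    refine ⟨U₀, hV0.trans hVZ, hzU₀, ?_⟩
    have key : CohPres.resF h𝔛.1 S.X₂ hV0 (CohPres.resF h𝔛.1 S.X₂ hVZ (secMap h𝔛.1 m Z s)) ∈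
        Submodule.span (Levels.A 𝔛 h𝔛.1 U₀) (Set.range (G U₀ (hV0.trans (hVZ.trans hZ)))) := by
      rw [← hy, sum_res]
      refine Submodule.sum_mem _ fun q _ => Submodule.smul_mem _ _ ?_
      have hUq : U₀ ≤ U q := hU₀V.trans (inf_le_right.trans (Finset.inf_le (Finset.mem_univ q)))
      rw [← resF_resF S.X₂ (hUV q) hUq]
      obtain ⟨cq, hcq⟩ := (Submodule.mem_span_range_iff_exists_fun _).1 (hmU q)
      rw [← hcq, sum_res]
      refine Submodule.sum_mem _ fun l _ => Submodule.smul_mem _ _ ?_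
      refine Submodule.subset_span ⟨l, ?_⟩
      exact (resF_resF _ _ _ _).symm
    obtain ⟨cc, hcc⟩ := (Submodule.mem_span_range_iff_exists_fun _).1 key
    rw [Submodule.mem_span_range_iff_exists_fun]
    refine ⟨fun q => cc (finSumFinEquiv.symm q), CohCons.secMap_injective m U₀ ?_⟩
    rw [map_sum, secMap_res, ← resF_resF S.X₂ hVZ hV0, ← hcc,
      ← finSumFinEquiv.symm.sum_comp fun q => cc q • G U₀ (hV0.trans (hVZ.trans hZ)) q]
    refine Finset.sum_congr rfl fun q _ => ?_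
    rw [map_smul, secMap_res]
    refine congrArg (_ • ·) ?_
    show CohPres.resF h𝔛.1 S.X₂ _ _ = CohPres.resF h𝔛.1 S.X₂ _ _
    beta_reduce
    rcases finSumFinEquiv.symm q with l | l
    · exact congrArg _ (hw a₀ l)
    · exact congrArg _ (hv l)
  choose M m hM n f hf hlift using main
  refine ind_of_family h𝔛 (K := J ⊕ I) (Sum.elim pa.diag.obj M)
    (fun k => by cases k with | inl j => exact hpa j | inr i => exact hM i) hq
    (fun k => match k with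
      | Sum.inl j => pa.ι.app j ≫ S.f
      | Sum.inr i => m i) fun a b hab => ?_
  have hf0 : S.f ≫ (a - b) = 0 := pa.isColimit.hom_ext fun j => by
    rw [Preadditive.comp_sub, Preadditive.comp_sub, comp_zero, sub_eq_zero]
    exact (Category.assoc _ _ _).symm.trans ((hab (Sum.inl j)).trans (Category.assoc _ _ _))
  obtain ⟨d, hd⟩ : ∃ d, S.g ≫ d = a - b := ⟨_, (hS.gIsCokernel.fac (CokernelCofork.ofπ (a - b) hf0) WalkingParallelPair.one)⟩
  suffices d = 0 by rw [← sub_eq_zero, ← hd, this, comp_zero]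
  refine pc.isColimit.hom_ext fun i => ?_
  rw [comp_zero]
  refine LevelAdj.hom_extF fun V x => ?_
  have hcov : ∀ z ∈ V.1, ∃ a' : t, z ∈ O a'.1 := fun z _ => by
    obtain ⟨x₀, hx₀, hz⟩ := Set.mem_iUnion₂.1 (ht (Set.mem_univ z))
    exact ⟨⟨x₀, hx₀⟩, hz⟩
  have hzero : ∀ a' l, secMap h𝔛.1 (pc.ι.app i ≫ d) (O a'.1) (f i a' l) = 0 := fun a' l => by
    obtain ⟨w, hw⟩ := hlift i a' l
    rw [secMap_comp, ← hw, ← secMap_comp, ← secMap_comp, hd]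
    have h1 : m i ≫ (a - b) = 0 := by
      rw [Preadditive.comp_sub, sub_eq_zero]
      exact hab (Sum.inr i)
    rw [h1]
    rfl
  let ψ := pc.ι.app i ≫ d
  let Sv : Sieve V.1 :=
    { arrows := fun U g => secMap h𝔛.1 ψ U (CohPres.resF h𝔛.1 _ (leOfHom g) x) = 0
      downward_closed := fun {U U' g} hg g' => by
        show secMap h𝔛.1 ψ U' _ = 0
        rw [← resF_resF _ (leOfHom g) (leOfHom g'), secMap_res, hg, map_zero] }
  have hS : Sv ∈ Opens.grothendieckTopology (𝔛.X 0) V.1 := fun z hz => by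
    obtain ⟨a', ha'⟩ := hcov z hz
    obtain ⟨U, hU, hzU, hUV⟩ := Opens.isBasis_iff_nbhd.1 (CohPres.isBasis_affine (𝔛.X 0))
      (U := V.1 ⊓ O a'.1) (x := z) ⟨hz, ha'⟩
    refine ⟨U, homOfLE (hUV.trans inf_le_left), ?_, hzU⟩
    show secMap h𝔛.1 ψ U _ = 0
    obtain ⟨c, hc⟩ := CohExact.gen_of_le h𝔛 (hpc i) (hO a'.1).1 (f i a') (hf i a') hU
      (hUV.trans inf_le_right) (CohPres.resF h𝔛.1 _ (hUV.trans inf_le_left) x)
    rw [hc, map_sum]
    refine Finset.sum_eq_zero fun l _ => ?_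
    rw [map_smul, secMap_res, hzero a' l, map_zero, smul_zero]
  refine SubSheaf.sections_ext (R := ModSite.ringSh (𝔛.Osh h𝔛.1)) _ hS fun U g hg => ?_
  rw [show g = homOfLE (leOfHom g) from Subsingleton.elim _ _]
  show CohPres.resF h𝔛.1 _ (leOfHom g) (secMap h𝔛.1 ψ V.1 x) = CohPres.resF h𝔛.1 _ (leOfHom g) 0
  rw [← secMap_res, map_zero]
  exact hg

end Groth.Agent.H22.IndColim
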