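import Groth.Agent.H22.IndColim.Affine
import Groth.Agent.H30.FSch.AffAcyclic

/-!
# Kernels and extensions of ind-coherent modules (helper22)
-/

set_option autoImplicit false
set_option maxHeartbeats 1000000
set_option linter.style.haveILetI false

universe u

open CategoryTheory CategoryTheory.Limits AlgebraicGeometry TopologicalSpace Opposite
open Groth.Agent.H30 Groth.Agent.H30.RealLimSec Groth.Agent.Lib.EtMod

namespace Groth.Agent.H22.IndColim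

variable {𝔛 : FSch.Sys.{u}} (h𝔛 : 𝔛.IsLocNoethFormal)

/-- A submodule with finitely many generators on affine opens is coherent. -/
theorem isCohF_of_mono {M L : FSch.ModF 𝔛 h𝔛.1} (m : M ⟶ L) [Mono m] (hL : Q (𝟙 L))
    (hgen : ∀ x : 𝔛.X 0, ∃ (W : (𝔛.X 0).Opens) (n : ℕ) (g : Fin n → sec h𝔛.1 M W),
      x ∈ W ∧ IsAffineOpen W ∧ ∀ (Z : (𝔛.X 0).Opens) (hZ : Z ≤ W) (s : sec h𝔛.1 M Z), ∀ z ∈ Z,
        ∃ (V : (𝔛.X 0).Opens) (hVZ : V ≤ Z), z ∈ V ∧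
          CohPres.resF h𝔛.1 M hVZ s ∈ Submodule.span (Levels.A 𝔛 h𝔛.1 V)
            (Set.range fun q => CohPres.resF h𝔛.1 M (hVZ.trans hZ) (g q))) :
    FSch.IsCohF 𝔛 h𝔛.1 M := by
  refine PresSh.isFinitePresentation_of_isPres fun x => ?_
  obtain ⟨W, n, g, hxW, hW, hg⟩ := hgen x
  haveI := Levels.isNoetherianRing_A h𝔛 hW
  let φ : (Fin n → Levels.A 𝔛 h𝔛.1 W) →ₗ[Levels.A 𝔛 h𝔛.1 W] sec h𝔛.1 M W :=
    Fintype.linearCombination _ g
  have hφ : ∀ a, φ a = ∑ q, a q • g q := fun a => Fintype.linearCombination_apply _ _ a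
  obtain ⟨k, r, hr⟩ := Submodule.fg_iff_exists_fin_generating_family.1
    (IsNoetherian.noetherian (LinearMap.ker φ))
  refine ⟨W, n, k, g, r, hxW, PresSh.IsPres.of_basis (M := M) {V | IsAffineOpen V}
    (CohPres.isBasis_affine (𝔛.X 0)) (fun j => ?_) (fun V hV hVW s z hz => ?_)
    fun V hV hVW c hc z hz => ?_⟩
  · exact (hφ (r j)).symm.trans (LinearMap.mem_ker.1 (hr ▸ Submodule.subset_span ⟨j, rfl⟩))
  · obtain ⟨U, hUV, hzU, hm⟩ := hg V hVW s z hz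
    obtain ⟨c, hc⟩ := (Submodule.mem_span_range_iff_exists_fun _).1 hm
    exact ⟨U, hUV, hzU, c, hc.symm⟩
  · have h1 : secMap h𝔛.1 (𝟙 L) V
        (∑ q, c q • CohPres.resF h𝔛.1 L hVW (secMap h𝔛.1 m W (g q))) = 0 := by
      rw [secMap_id]
      refine Eq.trans ?_ ((congrArg (secMap h𝔛.1 m V) hc).trans (map_zero _))
      refine Eq.trans ?_ (map_sum (secMap h𝔛.1 m V) _ _).symm
      exact Finset.sum_congr rfl fun q _ => ((map_smul (secMap h𝔛.1 m V) _ _).trans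
        (congrArg (c q • ·) (secMap_res m hVW (g q)))).symm
    obtain ⟨U, hUV, hzU, hm⟩ := hL W hW _ _ V hVW c h1 z hz
    have hle : Submodule.span (Levels.A 𝔛 h𝔛.1 U)
          (rv h𝔛.1 (hUV.trans hVW) '' Rel (𝟙 L) fun q => secMap h𝔛.1 m W (g q)) ≤
        Submodule.span (Levels.A 𝔛 h𝔛.1 U) (Set.range fun j => rv h𝔛.1 (hUV.trans hVW) (r j)) := by
      rw [Submodule.span_le]
      rintro _ ⟨a, ha, rfl⟩
      have ha' : a ∈ LinearMap.ker φ := by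
        rw [LinearMap.mem_ker, hφ]
        refine CohCons.secMap_injective m W ?_
        simp only [map_sum, map_smul, map_zero]
        exact ha
      rw [← hr, Submodule.mem_span_range_iff_exists_fun] at ha'
      obtain ⟨d, rfl⟩ := ha'
      exact mem_span_range_rv (hUV.trans hVW) d r
    obtain ⟨d, hd⟩ := (Submodule.mem_span_range_iff_exists_fun _).1 (hle hm)
    refine ⟨U, hUV, hzU, d, fun i => ?_⟩
    have := congrFun hd i
    rw [Finset.sum_apply] at this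
    exact this.symm

theorem ind_of_family {L : FSch.ModF 𝔛 h𝔛.1} {K : Type u} (T : K → FSch.ModF 𝔛 h𝔛.1)
    (hT : ∀ k, FSch.IsCohF 𝔛 h𝔛.1 (T k)) (hL : Q (𝟙 L)) (χ : ∀ k, T k ⟶ L)
    (hjoint : ∀ {Z : FSch.ModF 𝔛 h𝔛.1} (a b : L ⟶ Z), (∀ k, χ k ≫ a = χ k ≫ b) → a = b) :
    (ObjectProperty.ind.{u} fun 𝔊 : FSch.ModF 𝔛 h𝔛.1 => FSch.IsCohF 𝔛 h𝔛.1 𝔊) L := by
  obtain ⟨J, hJ, hJ', pres, hp, -⟩ := exists_presentation h𝔛 T hT (𝟙 L) hL χ
    fun a b hab => hjoint a b fun k => by simpa using hab k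
  exact ⟨J, hJ, hJ', pres, hp⟩

/-- Kernels of maps of ind-coherent modules are ind-coherent. -/
theorem ind_kernel {X Y : FSch.ModF 𝔛 h𝔛.1}
    (hX : (ObjectProperty.ind.{u} fun 𝔊 : FSch.ModF 𝔛 h𝔛.1 => FSch.IsCohF 𝔛 h𝔛.1 𝔊) X)
    (hY : (ObjectProperty.ind.{u} fun 𝔊 : FSch.ModF 𝔛 h𝔛.1 => FSch.IsCohF 𝔛 h𝔛.1 𝔊) Y)
    (φ : X ⟶ Y) :
    (ObjectProperty.ind.{u} fun 𝔊 : FSch.ModF 𝔛 h𝔛.1 => FSch.IsCohF 𝔛 h𝔛.1 𝔊) (kernel φ) := by
  obtain ⟨hgX, hqX⟩ := of_ind h𝔛 hX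
  obtain ⟨-, hqY⟩ := of_ind h𝔛 hY
  obtain ⟨J, _, _, pres, hp⟩ := hX
  let T : J → FSch.ModF 𝔛 h𝔛.1 := fun j => kernel (pres.ι.app j ≫ φ)
  have hT : ∀ j, FSch.IsCohF 𝔛 h𝔛.1 (T j) := fun j => by
    refine isCohF_of_mono h𝔛 (kernel.ι (pres.ι.app j ≫ φ)) (q_coh h𝔛 (hp j)) fun x => ?_
    obtain ⟨W, hW, hxW⟩ := CohCons.exists_affine (𝔛 := 𝔛) x
    haveI := CohExact.finite_sec h𝔛 (hp j) hW
    haveI := Levels.isNoetherianRing_A h𝔛 hW
    haveI : IsNoetherian (Levels.A 𝔛 h𝔛.1 W) (sec h𝔛.1 (pres.diag.obj j) W) :=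
      isNoetherian_of_isNoetherianRing_of_finite _ _
    haveI : Module.Finite (Levels.A 𝔛 h𝔛.1 W) (sec h𝔛.1 (T j) W) :=
      Module.Finite.of_injective (secMap h𝔛.1 (kernel.ι (pres.ι.app j ≫ φ)) W)
        (CohCons.secMap_injective _ W)
    obtain ⟨n, g, hg⟩ := Submodule.fg_iff_exists_fin_generating_family.1
      (Module.Finite.fg_top (R := Levels.A 𝔛 h𝔛.1 W) (M := sec h𝔛.1 (T j) W))
    refine ⟨W, n, g, hxW, hW, fun Z hZ s z hz => ?_⟩
    obtain ⟨V, hVZ, hzV, hm⟩ := gen_kernel (gen_coh h𝔛 (hp j)) (Q.of_id hqY _) W hW Z hZ s z hz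
    refine ⟨V, hVZ, hzV, Submodule.span_le.2 ?_ hm⟩
    rintro _ ⟨t, rfl⟩
    have ht : t ∈ Submodule.span (Levels.A 𝔛 h𝔛.1 W) (Set.range g) := hg ▸ trivial
    obtain ⟨c, rfl⟩ := (Submodule.mem_span_range_iff_exists_fun _).1 ht
    rw [sum_res]
    exact Submodule.sum_mem _ fun q _ => Submodule.smul_mem _ _ (Submodule.subset_span ⟨q, rfl⟩)
  refine ind_of_family h𝔛 T hT (fun W hW ι _ b Z hZ c hc => ?_)
    (fun j => kernel.lift φ (kernel.ι (pres.ι.app j ≫ φ) ≫ pres.ι.app j)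
      (by rw [Category.assoc, kernel.condition])) fun a b hab => ?_
  · rw [secMap_id] at hc
    refine (hqX W hW ι (fun l => secMap h𝔛.1 (kernel.ι φ) W (b l)) Z hZ c ?_).mono fun r hr => ?_
    · rw [secMap_id]
      have h1 := congrArg (secMap h𝔛.1 (kernel.ι φ) Z) hc
      simpa only [map_sum, map_smul, secMap_res, map_zero] using h1
    · refine CohCons.secMap_injective (kernel.ι φ) W ?_
      have h1 := show secMap h𝔛.1 (𝟙 X) W _ = 0 from hr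
      rw [secMap_id] at h1
      simp only [secMap_id, map_sum, map_smul, map_zero]
      exact h1
  · haveI : IsLocallyNoetherian (𝔛.X 0) := h𝔛.2.2 0
    haveI : QuasiSeparatedSpace (𝔛.X 0) := inferInstance
    haveI : PreservesColimitsOfSize.{u, u} (SheafOfModules.toSheaf.{u} (ModSite.ringSh (𝔛.Osh h𝔛.1))) :=
      inferInstance
    let hc := isColimitOfPreserves (SheafOfModules.toSheaf.{u} (ModSite.ringSh (𝔛.Osh h𝔛.1))) pres.isColimit
    refine LevelAdj.hom_extF fun V y => ?_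
    obtain ⟨i, t, ht⟩ := ColimCoh.Sections.exists_rep hc V.2.isCompact (secMap h𝔛.1 (kernel.ι φ) V.1 y)
    have ht' : secMap h𝔛.1 (pres.ι.app i) V.1 t = secMap h𝔛.1 (kernel.ι φ) V.1 y := ht
    have h0 : secMap h𝔛.1 (pres.ι.app i ≫ φ) V.1 t = 0 := by
      refine (congrArg (secMap h𝔛.1 φ V.1) ht').trans ?_
      rw [← secMap_comp, kernel.condition]
      rfl
    obtain ⟨t', htt⟩ := CohCons.exists_kernel (pres.ι.app i ≫ φ) t h0
    have hy : secMap h𝔛.1 (kernel.lift φ (kernel.ι (pres.ι.app i ≫ φ) ≫ pres.ι.app i)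
        (by rw [Category.assoc, kernel.condition])) V.1 t' = y := by
      refine CohCons.secMap_injective (kernel.ι φ) V.1 ?_
      rw [← secMap_comp, kernel.lift_ι, secMap_comp, htt]
      exact ht'
    rw [← hy]
    exact congrArg (fun ψ => secMap h𝔛.1 ψ V.1 t') (hab i)

theorem surjective_of_ind {S : ShortComplex (FSch.ModF 𝔛 h𝔛.1)} (hS : S.ShortExact)
    (h₁ : (ObjectProperty.ind.{u} fun 𝔊 : FSch.ModF 𝔛 h𝔛.1 => FSch.IsCohF 𝔛 h𝔛.1 𝔊) S.X₁)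
    {V : (𝔛.X 0).Opens} (hV : IsAffineOpen V) : Function.Surjective (secMap h𝔛.1 S.g V) := by
  haveI : IsLocallyNoetherian (𝔛.X 0) := h𝔛.2.2 0
  haveI : PrespectralSpace (𝔛.X 0) := inferInstance
  haveI : QuasiSeparatedSpace (𝔛.X 0) := inferInstance
  have hS' := hS.map_of_exact (SheafOfModules.toSheaf.{u} (ModSite.ringSh (𝔛.Osh h𝔛.1)))
  haveI := AffAcyclic.subsingleton_ind h𝔛 hV S.X₁ h₁ 1 Nat.one_pos
  intro y
  let g₀ := (Groth.Agent.Lib.ZarCoh.Basic.homEquiv V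
    ((SheafOfModules.toSheaf.{u} (ModSite.ringSh (𝔛.Osh h𝔛.1))).obj S.X₃)).symm y
  obtain ⟨x₂, hx₂⟩ := Abelian.Ext.covariant_sequence_exact₃ (Groth.Agent.Lib.ZarCoh.Basic.Zs.obj V) hS' (Abelian.Ext.mk₀ g₀)
    (rfl : 0 + 1 = 1) (Subsingleton.elim
      (α := Abelian.Ext.{u} (Groth.Agent.Lib.ZarCoh.Basic.Zs.obj V) ((SheafOfModules.toSheaf.{u} (ModSite.ringSh (𝔛.Osh h𝔛.1))).obj S.X₁) 1) _ _)
  obtain ⟨g₂, rfl⟩ := Groth.Agent.Lib.TowerExt.mk₀_surjective x₂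
  rw [Abelian.Ext.mk₀_comp_mk₀] at hx₂
  refine ⟨Groth.Agent.Lib.ZarCoh.Basic.homEquiv V _ g₂, ?_⟩
  have h1 := congrArg (Groth.Agent.Lib.ZarCoh.Basic.homEquiv V _) ((Abelian.Ext.mk₀_bijective _ _).1 hx₂)
  exact (Groth.Agent.Lib.ZarCoh.Basic.homEquiv_comp g₂ _).symm.trans
    (h1.trans (Equiv.apply_symm_apply _ _))

theorem exists_lift {S : ShortComplex (FSch.ModF 𝔛 h𝔛.1)} (hS : S.ShortExact)
    {V : (𝔛.X 0).Opens} (y : sec h𝔛.1 S.X₂ V) (hy : secMap h𝔛.1 S.g V y = 0) :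
    ∃ t, secMap h𝔛.1 S.f V t = y := by
  obtain ⟨t, ht⟩ := CohCons.exists_kernel S.g y hy
  let e : kernel S.g ≅ S.X₁ :=
    (limit.isLimit (parallelPair S.g 0)).conePointUniqueUpToIso hS.fIsKernel
  refine ⟨secMap h𝔛.1 e.hom V t, ?_⟩
  rw [← secMap_comp, show e.hom ≫ S.f = kernel.ι S.g from
    IsLimit.conePointUniqueUpToIso_hom_comp _ hS.fIsKernel WalkingParallelPair.zero]
  exact ht

/-- Extensions inherit generation and relations. -/
theorem gen_q_ext {S : ShortComplex (FSch.ModF 𝔛 h𝔛.1)} (hS : S.ShortExact)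
    (h₁ : (ObjectProperty.ind.{u} fun 𝔊 : FSch.ModF 𝔛 h𝔛.1 => FSch.IsCohF 𝔛 h𝔛.1 𝔊) S.X₁)
    (h₃ : (ObjectProperty.ind.{u} fun 𝔊 : FSch.ModF 𝔛 h𝔛.1 => FSch.IsCohF 𝔛 h𝔛.1 𝔊) S.X₃) :
    Gen S.X₂ ∧ Q (𝟙 S.X₂) := by
  obtain ⟨hg₁, hq₁⟩ := of_ind h𝔛 h₁
  obtain ⟨hg₃, hq₃⟩ := of_ind h𝔛 h₃
  haveI := hS.mono_f
  refine ⟨fun W hW Z hZ s z hz => ?_, fun W hW ι _ b Z hZ c hc z hz => ?_⟩
  · obtain ⟨V, hVZ, hzV, hm⟩ := hg₃ W hW Z hZ (secMap h𝔛.1 S.g Z s) z hz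
    obtain ⟨n, a, γ, hγ⟩ := exists_of_mem_span_range (hVZ.trans hZ) hm
    choose β hβ using fun l => surjective_of_ind h𝔛 hS h₁ hW (γ l)
    obtain ⟨t, ht⟩ := exists_lift h𝔛 hS (CohPres.resF h𝔛.1 S.X₂ hVZ s -
      ∑ l, a l • CohPres.resF h𝔛.1 S.X₂ (hVZ.trans hZ) (β l)) (by
        rw [map_sub, map_sum]
        simp only [map_smul, secMap_res, hβ]
        rw [← hγ, sub_self])
    obtain ⟨U, hUV, hzU, hmU⟩ := hg₁ W hW V (hVZ.trans hZ) t z hzV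
    refine ⟨U, hUV.trans hVZ, hzU, ?_⟩
    have h2 := secMap_mem_span S.f (hUV.trans (hVZ.trans hZ)) hmU
    rw [secMap_res, ht, map_sub, resF_resF, sum_res_res] at h2
    have h3 : ∑ l, CohPres.resA h𝔛.1 hUV (a l) •
        CohPres.resF h𝔛.1 S.X₂ (hUV.trans (hVZ.trans hZ)) (β l) ∈
        Submodule.span (Levels.A 𝔛 h𝔛.1 U)
          (Set.range (CohPres.resF h𝔛.1 S.X₂ (hUV.trans (hVZ.trans hZ)))) :=
      Submodule.sum_mem _ fun l _ => Submodule.smul_mem _ _ (Submodule.subset_span (Set.mem_range_self _))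
    have h4 := Submodule.add_mem _ h2 h3
    rwa [sub_add_cancel] at h4
  · rw [secMap_id] at hc
    obtain ⟨V, hVZ, hzV, hm⟩ := hq₃ W hW ι (fun l => secMap h𝔛.1 S.g W (b l)) Z hZ c (by
      rw [secMap_id]
      have h1 := congrArg (secMap h𝔛.1 S.g Z) hc
      simpa only [map_sum, map_smul, secMap_res, map_zero] using h1) z hz
    obtain ⟨n, d, r, hr, hd⟩ := exists_of_mem_span (hVZ.trans hZ) hm
    choose α hα using fun j => exists_lift h𝔛 hS (∑ l, r j l • b l) (by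
      rw [map_sum]
      simp only [map_smul]
      exact hr j)
    have h0 : secMap h𝔛.1 (𝟙 S.X₁) V
        (∑ j, d j • CohPres.resF h𝔛.1 S.X₁ (hVZ.trans hZ) (α j)) = 0 := by
      refine CohCons.secMap_injective S.f V ?_
      simp only [secMap_id, map_sum, map_smul, secMap_res, hα, map_zero]
      refine Eq.trans ?_ ((congrArg (CohPres.resF h𝔛.1 S.X₂ hVZ) hc).trans (map_zero _))
      rw [sum_res_res]
      refine Eq.trans ?_ (Finset.sum_congr rfl fun l _ => by rw [← hd l] :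
        ∑ l, (∑ j, d j * CohPres.resA h𝔛.1 (hVZ.trans hZ) (r j l)) •
          CohPres.resF h𝔛.1 S.X₂ (hVZ.trans hZ) (b l) = _)
      rw [sum_smul_expand]
      simp only [map_sum]
    obtain ⟨U, hUV, hzU, hmU⟩ := hq₁ W hW (Fin n) α V (hVZ.trans hZ) d h0 z hzV
    obtain ⟨m, e, w, hw, he⟩ := exists_of_mem_span (hUV.trans (hVZ.trans hZ)) hmU
    refine ⟨U, hUV.trans hVZ, hzU, mem_span_of_eq _ e (fun q l => ∑ j, w q j * r j l)
      (fun q => ?_) fun l => ?_⟩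
    · show secMap h𝔛.1 (𝟙 S.X₂) W _ = 0
      have hexp : ∑ l, (∑ j, w q j * r j l) • b l = ∑ j, w q j • ∑ l, r j l • b l := by
        simp only [Finset.sum_smul, mul_smul, Finset.smul_sum]
        exact Finset.sum_comm
      rw [secMap_id, hexp]
      simp only [← hα, ← map_smul, ← map_sum]
      rw [show ∑ j, w q j • α j = 0 from hw q, map_zero]
    · show CohPres.resA h𝔛.1 (hUV.trans hVZ) (c l) = _
      rw [← resA_resA hVZ hUV, show CohPres.resA h𝔛.1 hVZ (c l) = _ from hd l, map_sum]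
      simp only [map_mul, resA_resA, map_sum, Finset.mul_sum]
      rw [Finset.sum_comm]
      refine Finset.sum_congr rfl fun j _ => ?_
      rw [show CohPres.resA h𝔛.1 hUV (d j) = _ from he j, Finset.sum_mul]
      exact Finset.sum_congr rfl fun q _ => mul_assoc _ _ _

end Groth.Agent.H22.IndColim
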