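import Groth.Agent.H30.FSch.CohCons
import Groth.Agent.H30.FSch.PresGen
import Groth.Agent.H30.ColimCoh.Sections
import Mathlib.CategoryTheory.ObjectProperty.Ind

/-!
# Local generation by sections and relations over affine opens (helper22)
-/

set_option autoImplicit false
set_option maxHeartbeats 1000000
set_option linter.style.haveILetI false

universe u

open CategoryTheory CategoryTheory.Limits AlgebraicGeometry TopologicalSpace Opposite
open Groth.Agent.H30 Groth.Agent.H30.RealLimSec Groth.Agent.Lib.EtMod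

namespace Groth.Agent.H22.IndColim

variable {𝔛 : FSch.Sys.{u}} {h : 𝔛.IsFormal}

theorem resF_resF (F : FSch.ModF 𝔛 h) {U V W : (𝔛.X 0).Opens} (e : V ≤ U) (e' : W ≤ V)
    (s : sec h F U) :
    CohPres.resF h F e' (CohPres.resF h F e s) = CohPres.resF h F (e'.trans e) s :=
  PresSh.res_res F e e' s

theorem resA_resA {U V W : (𝔛.X 0).Opens} (e : V ≤ U) (e' : W ≤ V) (a : Levels.A 𝔛 h U) :
    CohPres.resA h e' (CohPres.resA h e a) = CohPres.resA h (e'.trans e) a :=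
  PresSh.resR_resR (ModSite.ringSh (𝔛.Osh h)) e e' a

theorem secMap_res {F G : FSch.ModF 𝔛 h} (φ : F ⟶ G) {U V : (𝔛.X 0).Opens} (e : V ≤ U)
    (t : sec h F U) :
    secMap h φ V (CohPres.resF h F e t) = CohPres.resF h G e (secMap h φ U t) :=
  LevelAdj.secMap_map φ e t

theorem secMap_comp {F G K : FSch.ModF 𝔛 h} (φ : F ⟶ G) (ψ : G ⟶ K) (V : (𝔛.X 0).Opens)
    (x : sec h F V) : secMap h (φ ≫ ψ) V x = secMap h ψ V (secMap h φ V x) := rfl

theorem secMap_id {F : FSch.ModF 𝔛 h} (V : (𝔛.X 0).Opens) (x : sec h F V) :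
    secMap h (𝟙 F) V x = x := rfl

variable (h) in
/-- Restriction of tuples of functions. -/
noncomputable abbrev rv {W V : (𝔛.X 0).Opens} (e : V ≤ W) {ι : Type} (c : ι → Levels.A 𝔛 h W) :
    ι → Levels.A 𝔛 h V := fun i => CohPres.resA h e (c i)

/-- Global expansion of an element of a span of restricted tuples. -/
theorem exists_of_mem_span {W V : (𝔛.X 0).Opens} (e : V ≤ W) {ι : Type}
    {R : Set (ι → Levels.A 𝔛 h W)} {c : ι → Levels.A 𝔛 h V}
    (hc : c ∈ Submodule.span (Levels.A 𝔛 h V) (rv h e '' R)) :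
    ∃ (n : ℕ) (d : Fin n → Levels.A 𝔛 h V) (r : Fin n → ι → Levels.A 𝔛 h W),
      (∀ j, r j ∈ R) ∧ ∀ i, c i = ∑ j, d j * CohPres.resA h e (r j i) := by
  obtain ⟨n, d, g, hg⟩ := Submodule.mem_span_set'.1 hc
  choose r hr hr' using fun j => (g j).2
  refine ⟨n, d, r, hr, fun i => ?_⟩
  rw [← hg, Finset.sum_apply]
  refine Finset.sum_congr rfl fun j _ => ?_
  exact congrArg (fun v : ι → Levels.A 𝔛 h V => d j * v i) (hr' j).symm

theorem mem_span_of_eq {W V : (𝔛.X 0).Opens} (e : V ≤ W) {ι : Type}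
    {R : Set (ι → Levels.A 𝔛 h W)} {c : ι → Levels.A 𝔛 h V} {κ : Type*} [Fintype κ]
    (d : κ → Levels.A 𝔛 h V) (r : κ → ι → Levels.A 𝔛 h W) (hr : ∀ j, r j ∈ R)
    (hc : ∀ i, c i = ∑ j, d j * CohPres.resA h e (r j i)) :
    c ∈ Submodule.span (Levels.A 𝔛 h V) (rv h e '' R) := by
  have h1 : c = ∑ j, d j • rv h e (r j) := funext fun i => by
    rw [hc i, Finset.sum_apply]
    rfl
  rw [h1]
  exact Submodule.sum_mem _ fun j _ =>
    Submodule.smul_mem _ _ (Submodule.subset_span ⟨_, hr j, rfl⟩)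

variable (h) in
/-- Locally a combination of restrictions of the tuples in `R`. -/
def LSpan {W Z : (𝔛.X 0).Opens} (hZ : Z ≤ W) {ι : Type} (R : Set (ι → Levels.A 𝔛 h W))
    (c : ι → Levels.A 𝔛 h Z) : Prop :=
  ∀ z ∈ Z, ∃ (V : (𝔛.X 0).Opens) (hVZ : V ≤ Z), z ∈ V ∧
    rv h hVZ c ∈ Submodule.span (Levels.A 𝔛 h V) (rv h (hVZ.trans hZ) '' R)

theorem LSpan.mono {W Z : (𝔛.X 0).Opens} {hZ : Z ≤ W} {ι : Type}
    {R R' : Set (ι → Levels.A 𝔛 h W)} {c : ι → Levels.A 𝔛 h Z} (hc : LSpan h hZ R c)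
    (hR : R ⊆ R') : LSpan h hZ R' c := fun z hz => by
  obtain ⟨V, hVZ, hzV, hm⟩ := hc z hz
  exact ⟨V, hVZ, hzV, Submodule.span_mono (Set.image_mono hR) hm⟩

/-- The relations among sections over `W` mapped to a module. -/
def Rel {B C : FSch.ModF 𝔛 h} (π : B ⟶ C) {W : (𝔛.X 0).Opens} {ι : Type} [Fintype ι]
    (b : ι → sec h B W) : Set (ι → Levels.A 𝔛 h W) :=
  {r | secMap h π W (∑ i, r i • b i) = 0}

theorem sum_res {F : FSch.ModF 𝔛 h} {U V : (𝔛.X 0).Opens} (e : V ≤ U) {ι : Type*} [Fintype ι]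
    (c : ι → Levels.A 𝔛 h U) (b : ι → sec h F U) :
    CohPres.resF h F e (∑ i, c i • b i) = ∑ i, CohPres.resA h e (c i) • CohPres.resF h F e (b i) := by
  rw [map_sum]
  exact Finset.sum_congr rfl fun i _ => CohPres.resF_smul h F e _ _

theorem sum_res_res {F : FSch.ModF 𝔛 h} {W U V : (𝔛.X 0).Opens} (e : U ≤ W) (e' : V ≤ U)
    {ι : Type*} [Fintype ι] (c : ι → Levels.A 𝔛 h U) (b : ι → sec h F W) :
    CohPres.resF h F e' (∑ i, c i • CohPres.resF h F e (b i)) =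
      ∑ i, CohPres.resA h e' (c i) • CohPres.resF h F (e'.trans e) (b i) := by
  rw [sum_res]
  simp only [resF_resF]

/-- Expansion of a combination along an expansion of the coefficients. -/
theorem sum_smul_expand {F : FSch.ModF 𝔛 h} {W V : (𝔛.X 0).Opens} (e : V ≤ W) {ι κ : Type*}
    [Fintype ι] [Fintype κ] (d : κ → Levels.A 𝔛 h V) (r : κ → ι → Levels.A 𝔛 h W)
    (b : ι → sec h F W) :
    ∑ i, (∑ j, d j * CohPres.resA h e (r j i)) • CohPres.resF h F e (b i) =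
      ∑ j, d j • CohPres.resF h F e (∑ i, r j i • b i) := by
  simp only [Finset.sum_smul, mul_smul, sum_res, Finset.smul_sum]
  exact Finset.sum_comm

/-- Relations over affine opens generate all relations locally. -/
def Q {B C : FSch.ModF 𝔛 h} (π : B ⟶ C) : Prop :=
  ∀ (W : (𝔛.X 0).Opens), IsAffineOpen W → ∀ (ι : Type) [Fintype ι] (b : ι → sec h B W)
    (Z : (𝔛.X 0).Opens) (hZ : Z ≤ W) (c : ι → Levels.A 𝔛 h Z),
    secMap h π Z (∑ i, c i • CohPres.resF h B hZ (b i)) = 0 → LSpan h hZ (Rel π b) c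

theorem Q.comp_mono {B C C' : FSch.ModF 𝔛 h} {π : B ⟶ C} (hπ : Q π) (m : C ⟶ C') [Mono m] :
    Q (π ≫ m) := by
  intro W hW ι _ b Z hZ c hc
  rw [secMap_comp, ← map_zero (secMap h m Z)] at hc
  refine (hπ W hW ι b Z hZ c (CohCons.secMap_injective m Z hc)).mono fun r hr => ?_
  show secMap h (π ≫ m) W _ = 0
  rw [secMap_comp, show secMap h π W _ = 0 from hr, map_zero]

/-- Generated by the sections over `W`, locally on `Z`. -/
def Gen (F : FSch.ModF 𝔛 h) : Prop :=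
  ∀ (W : (𝔛.X 0).Opens), IsAffineOpen W → ∀ (Z : (𝔛.X 0).Opens) (hZ : Z ≤ W) (s : sec h F Z),
    ∀ z ∈ Z, ∃ (V : (𝔛.X 0).Opens) (hVZ : V ≤ Z), z ∈ V ∧
      CohPres.resF h F hVZ s ∈
        Submodule.span (Levels.A 𝔛 h V) (Set.range (CohPres.resF h F (hVZ.trans hZ)))

theorem exists_of_mem_span_range {F : FSch.ModF 𝔛 h} {W V : (𝔛.X 0).Opens} (e : V ≤ W)
    {x : sec h F V}
    (hx : x ∈ Submodule.span (Levels.A 𝔛 h V) (Set.range (CohPres.resF h F e))) :
    ∃ (m : ℕ) (a : Fin m → Levels.A 𝔛 h V) (g : Fin m → sec h F W),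
      x = ∑ l, a l • CohPres.resF h F e (g l) := by
  obtain ⟨m, a, g, hg⟩ := Submodule.mem_span_set'.1 hx
  choose g' hg' using fun l => (g l).2
  exact ⟨m, a, g', hg.symm.trans (Finset.sum_congr rfl fun l _ => by rw [hg'])⟩

theorem secMap_mem_span {F G : FSch.ModF 𝔛 h} (φ : F ⟶ G) {W V : (𝔛.X 0).Opens} (e : V ≤ W)
    {x : sec h F V}
    (hx : x ∈ Submodule.span (Levels.A 𝔛 h V) (Set.range (CohPres.resF h F e))) :
    secMap h φ V x ∈ Submodule.span (Levels.A 𝔛 h V) (Set.range (CohPres.resF h G e)) := by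
  obtain ⟨m, a, g, rfl⟩ := exists_of_mem_span_range e hx
  rw [map_sum]
  refine Submodule.sum_mem _ fun l _ => ?_
  rw [map_smul, secMap_res]
  exact Submodule.smul_mem _ _ (Submodule.subset_span ⟨_, rfl⟩)

theorem resF_mem_span {F : FSch.ModF 𝔛 h} {W V V' : (𝔛.X 0).Opens} (e : V ≤ W) (e' : V' ≤ V)
    {x : sec h F V}
    (hx : x ∈ Submodule.span (Levels.A 𝔛 h V) (Set.range (CohPres.resF h F e))) :
    CohPres.resF h F e' x ∈
      Submodule.span (Levels.A 𝔛 h V') (Set.range (CohPres.resF h F (e'.trans e))) := by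
  obtain ⟨m, a, g, rfl⟩ := exists_of_mem_span_range e hx
  rw [sum_res_res]
  exact Submodule.sum_mem _ fun l _ => Submodule.smul_mem _ _ (Submodule.subset_span ⟨_, rfl⟩)

/-- Local preimages along epimorphisms. -/
theorem exists_preimage {F G : FSch.ModF 𝔛 h} (φ : F ⟶ G) [Epi φ] {Z : (𝔛.X 0).Opens}
    (s : sec h G Z) {z : 𝔛.X 0} (hz : z ∈ Z) :
    ∃ (V : (𝔛.X 0).Opens) (hVZ : V ≤ Z) (t : sec h F V), z ∈ V ∧
      secMap h φ V t = CohPres.resF h G hVZ s := by
  obtain ⟨S, hS, hS'⟩ := SubSheaf.exists_local_preimage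
    (R := ModSite.ringSh (𝔛.Osh h)) φ (X := Z) s
  obtain ⟨V, f, hf, hzV⟩ := hS z hz
  obtain ⟨t, ht⟩ := hS' f hf
  exact ⟨V, leOfHom f, t, hzV, ht⟩

theorem Gen.of_epi {F G : FSch.ModF 𝔛 h} (hF : Gen F) (φ : F ⟶ G) [Epi φ] : Gen G := by
  intro W hW Z hZ s z hz
  obtain ⟨V, hVZ, t, hzV, ht⟩ := exists_preimage φ s hz
  obtain ⟨V', hVV, hzV', hm⟩ := hF W hW V (hVZ.trans hZ) t z hzV
  refine ⟨V', hVV.trans hVZ, hzV', ?_⟩
  have h1 := secMap_mem_span φ ((hVV.trans hVZ).trans hZ) hm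
  rwa [secMap_res, ht, resF_resF] at h1

section FinProd

variable {α : Type u} {P : FSch.ModF 𝔛 h} {X : α → FSch.ModF 𝔛 h}
  (p : ∀ k, P ⟶ X k) (i : ∀ k, X k ⟶ P)

theorem Gen.of_projections [Fintype α] (hX : ∀ k, Gen (X k))
    (hsum : ∀ (V : (𝔛.X 0).Opens) (x : sec h P V),
      x = ∑ k, secMap h (i k) V (secMap h (p k) V x)) : Gen P := by
  classical
  intro W hW Z hZ s z hz
  choose V hVZ hzV hm using fun k => hX k W hW Z hZ (secMap h (p k) Z s) z hz
  obtain ⟨U, hU, hzU, hUV⟩ := Opens.isBasis_iff_nbhd.1 (CohPres.isBasis_affine (𝔛.X 0))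
    (U := Z ⊓ Finset.univ.inf V) (x := z)
    ⟨hz, by
      rw [Opens.coe_finset_inf, Finset.inf_set_eq_iInter]
      exact Set.mem_iInter₂.2 fun k _ => hzV k⟩
  have hUk : ∀ k, U ≤ V k := fun k =>
    hUV.trans (inf_le_right.trans (Finset.inf_le (Finset.mem_univ k)))
  refine ⟨U, hUV.trans inf_le_left, hzU, ?_⟩
  rw [hsum U (CohPres.resF h P _ s)]
  refine Submodule.sum_mem _ fun k _ => secMap_mem_span (i k) _ ?_
  have h1 := resF_mem_span ((hVZ k).trans hZ) (hUk k) (hm k)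
  rw [resF_resF] at h1
  rwa [secMap_res]

theorem q_projections (hX : ∀ k, Q (𝟙 (X k))) (S : Finset α) {W : (𝔛.X 0).Opens}
    (hW : IsAffineOpen W) {ι : Type} [Fintype ι] (b : ι → sec h P W) {Z : (𝔛.X 0).Opens}
    (hZ : Z ≤ W) (c : ι → Levels.A 𝔛 h Z)
    (hc : ∀ k ∈ S, secMap h (p k) Z (∑ l, c l • CohPres.resF h P hZ (b l)) = 0) :
    LSpan h hZ {r | ∀ k ∈ S, secMap h (p k) W (∑ l, r l • b l) = 0} c := by
  classical
  induction S using Finset.induction_on with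
  | empty =>
    intro z hz
    refine ⟨Z, le_rfl, hz, mem_span_of_eq _ (rv h le_rfl c)
      (fun j => (Pi.single j 1 : ι → Levels.A 𝔛 h W)) (fun j k hk => absurd hk (Finset.notMem_empty k))
      fun l => ?_⟩
    rw [Finset.sum_eq_single l]
    · rw [Pi.single_eq_same, map_one, mul_one]
    · intro j _ hj
      rw [Pi.single_eq_of_ne (Ne.symm hj), map_zero, mul_zero]
    · exact fun hl => absurd (Finset.mem_univ l) hl
  | insert k S _ ih =>
    intro z hz
    obtain ⟨V, hVZ, hzV, hm⟩ := ih (fun k' hk' => hc k' (Finset.mem_insert_of_mem hk')) z hz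
    obtain ⟨n, d, r, hr, hd⟩ := exists_of_mem_span (hVZ.trans hZ) hm
    have h0 : secMap h (𝟙 (X k)) V
        (∑ j, d j • CohPres.resF h (X k) (hVZ.trans hZ) (secMap h (p k) W (∑ l, r j l • b l))) = 0 := by
      rw [secMap_id]
      refine Eq.trans ?_ ((congrArg (CohPres.resF h (X k) hVZ) (hc k (Finset.mem_insert_self k S))).trans
        (map_zero _))
      rw [← secMap_res, sum_res_res]
      refine Eq.trans ?_ (congrArg (secMap h (p k) V) (Finset.sum_congr rfl fun l _ => by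
        rw [← hd l] : ∑ l, (∑ j, d j * CohPres.resA h (hVZ.trans hZ) (r j l)) •
          CohPres.resF h P (hVZ.trans hZ) (b l) = _))
      rw [sum_smul_expand, map_sum]
      simp only [map_smul, secMap_res]
    obtain ⟨V', hVV, hzV', hm'⟩ := hX k W hW (Fin n) _ V (hVZ.trans hZ) d h0 z hzV
    obtain ⟨m, e, t, ht, he⟩ := exists_of_mem_span ((hVV.trans hVZ).trans hZ) hm'
    refine ⟨V', hVV.trans hVZ, hzV', mem_span_of_eq _ e (fun q l => ∑ j, t q j * r j l)
      (fun q k' hk' => ?_) fun l => ?_⟩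
    · have hexp : ∑ l, (∑ j, t q j * r j l) • b l = ∑ j, t q j • ∑ l, r j l • b l := by
        simp only [Finset.sum_smul, mul_smul, Finset.smul_sum]
        exact Finset.sum_comm
      rw [hexp, map_sum]
      rcases Finset.mem_insert.1 hk' with rfl | hk'
      · simp only [map_smul]
        have := ht q
        exact this
      · refine Finset.sum_eq_zero fun j _ => ?_
        rw [map_smul, show secMap h (p k') W (∑ l, r j l • b l) = 0 from hr j k' hk', smul_zero]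
    · show CohPres.resA h (hVV.trans hVZ) (c l) = _
      rw [← resA_resA hVZ hVV, show CohPres.resA h hVZ (c l) = _ from hd l, map_sum]
      simp only [map_mul, resA_resA, map_sum, Finset.mul_sum]
      rw [Finset.sum_comm]
      refine Finset.sum_congr rfl fun j _ => ?_
      rw [show CohPres.resA h hVV (d j) = _ from he j, Finset.sum_mul]
      exact Finset.sum_congr rfl fun q _ => mul_assoc _ _ _

theorem Q.of_projections [Fintype α] (hX : ∀ k, Q (𝟙 (X k)))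
    (hsum : ∀ (V : (𝔛.X 0).Opens) (x : sec h P V),
      x = ∑ k, secMap h (i k) V (secMap h (p k) V x)) : Q (𝟙 P) := by
  intro W hW ι _ b Z hZ c hc
  rw [secMap_id] at hc
  refine (q_projections p hX Finset.univ hW b hZ c fun k _ => by rw [hc, map_zero]).mono fun r hr => ?_
  show secMap h (𝟙 P) W _ = 0
  rw [secMap_id, hsum W (∑ l, r l • b l)]
  exact Finset.sum_eq_zero fun k _ => by rw [hr k (Finset.mem_univ k), map_zero]

end FinProd

/-- Relations modulo the image of a generated module. -/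
theorem Q.cokernel {A P : FSch.ModF 𝔛 h} (hA : Gen A) (hP : Q (𝟙 P)) (ψ : A ⟶ P) :
    Q (cokernel.π ψ) := by
  intro W hW ι _ b Z hZ c hc z hz
  haveI : Epi (kernel.lift (Limits.cokernel.π ψ) ψ (cokernel.condition ψ)) :=
    (ShortComplex.exact_cokernel ψ).epi_kernelLift
  obtain ⟨t, ht⟩ := CohCons.exists_kernel (Limits.cokernel.π ψ) _ hc
  obtain ⟨V, hVZ, a, hzV, ha⟩ :=
    exists_preimage (kernel.lift (Limits.cokernel.π ψ) ψ (cokernel.condition ψ)) t hz
  have ha' : secMap h ψ V a = CohPres.resF h P hVZ (∑ l, c l • CohPres.resF h P hZ (b l)) := by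
    rw [← ht, ← secMap_res, ← ha, ← secMap_comp, kernel.lift_ι]
  obtain ⟨V', hVV, hzV', hm⟩ := hA W hW V (hVZ.trans hZ) a z hzV
  obtain ⟨m, e, g, hg⟩ := exists_of_mem_span_range ((hVV.trans hVZ).trans hZ) hm
  let b' : ι ⊕ Fin m → sec h P W := Sum.elim b fun q => secMap h ψ W (g q)
  let c' : ι ⊕ Fin m → Levels.A 𝔛 h V' :=
    Sum.elim (rv h (hVV.trans hVZ) c) fun q => - e q
  have h0 : secMap h (𝟙 P) V'
      (∑ q, c' q • CohPres.resF h P ((hVV.trans hVZ).trans hZ) (b' q)) = 0 := by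
    rw [secMap_id, Fintype.sum_sum_type]
    simp only [b', c', Sum.elim_inl, Sum.elim_inr, neg_smul, Finset.sum_neg_distrib]
    rw [← sum_res_res hZ (hVV.trans hVZ), ← resF_resF P hVZ hVV, ← ha', ← secMap_res, hg, map_sum]
    simp only [map_smul, secMap_res]
    exact add_neg_cancel _
  obtain ⟨U, hUV, hzU, hm'⟩ := hP W hW (ι ⊕ Fin m) b' V' ((hVV.trans hVZ).trans hZ) c' h0 z hzV'
  obtain ⟨n, d, r, hr, hd⟩ := exists_of_mem_span (hUV.trans ((hVV.trans hVZ).trans hZ)) hm'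
  refine ⟨U, hUV.trans (hVV.trans hVZ), hzU, mem_span_of_eq _ d (fun j l => r j (Sum.inl l))
    (fun j => ?_) fun l => ?_⟩
  · have h1 := congrArg (secMap h (Limits.cokernel.π ψ) W) (show secMap h (𝟙 P) W _ = 0 from hr j)
    rw [secMap_id, Fintype.sum_sum_type, map_add, map_zero] at h1
    have h2 : secMap h (Limits.cokernel.π ψ) W (∑ q, r j (Sum.inr q) • b' (Sum.inr q)) = 0 := by
      rw [map_sum]
      refine Finset.sum_eq_zero fun q _ => ?_
      simp only [b', Sum.elim_inr]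
      rw [← map_smul (secMap h ψ W), ← secMap_comp, cokernel.condition]
      rfl
    rw [h2, add_zero] at h1
    exact h1
  · exact (resA_resA (hVV.trans hVZ) hUV (c l)).symm.trans (hd (Sum.inl l))

variable (h𝔛 : 𝔛.IsLocNoethFormal)

theorem gen_coh {T : FSch.ModF 𝔛 h𝔛.1} (hT : FSch.IsCohF 𝔛 h𝔛.1 T) : Gen T := by
  intro W hW Z hZ s z hz
  obtain ⟨V, hV, hzV, hVZ⟩ := Opens.isBasis_iff_nbhd.1 (CohPres.isBasis_affine (𝔛.X 0)) hz
  obtain ⟨n, f, hf⟩ := CohCons.exists_fin_gens h𝔛 hW hT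
  obtain ⟨a, ha⟩ := CohExact.gen_of_le h𝔛 hT hW f hf hV (hVZ.trans hZ) (CohPres.resF h𝔛.1 T hVZ s)
  refine ⟨V, hVZ, hzV, ?_⟩
  rw [ha]
  exact Submodule.sum_mem _ fun l _ => Submodule.smul_mem _ _ (Submodule.subset_span ⟨_, rfl⟩)

theorem q_coh {T : FSch.ModF 𝔛 h𝔛.1} (hT : FSch.IsCohF 𝔛 h𝔛.1 T) : Q (𝟙 T) := by
  classical
  intro W hW ι _ b Z hZ c hc z hz
  rw [secMap_id] at hc
  obtain ⟨V, hV, hzV, hVZ⟩ := Opens.isBasis_iff_nbhd.1 (CohPres.isBasis_affine (𝔛.X 0)) hz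
  haveI := Levels.isNoetherianRing_A h𝔛 hW
  let e := Fintype.equivFin ι
  let f : Fin (Fintype.card ι) → sec h𝔛.1 T W := fun l => b (e.symm l)
  let φ : (Fin (Fintype.card ι) → Levels.A 𝔛 h𝔛.1 W) →ₗ[Levels.A 𝔛 h𝔛.1 W] sec h𝔛.1 T W :=
    Fintype.linearCombination _ f
  have hφ : ∀ a, φ a = ∑ l, a l • f l := fun a => Fintype.linearCombination_apply _ _ a
  obtain ⟨m, r, hr⟩ := Submodule.fg_iff_exists_fin_generating_family.1
    (IsNoetherian.noetherian (LinearMap.ker φ))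
  obtain ⟨d, hd⟩ := CohExact.rel_of_le h𝔛 hT hW f r (fun a ha => by
      rw [← hφ, ← LinearMap.mem_ker, ← hr, Submodule.mem_span_range_iff_exists_fun] at ha
      obtain ⟨d, hd⟩ := ha
      exact ⟨d, fun l => by rw [← hd]; simp⟩) hV (hVZ.trans hZ)
    (fun l => CohPres.resA h𝔛.1 hVZ (c (e.symm l))) (by
      have h1 := congrArg (CohPres.resF h𝔛.1 T hVZ) hc
      rw [sum_res_res, map_zero] at h1
      exact (e.symm.sum_comp fun i => CohPres.resA h𝔛.1 hVZ (c i) •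
        CohPres.resF h𝔛.1 T (hVZ.trans hZ) (b i)).trans h1)
  refine ⟨V, hVZ, hzV, mem_span_of_eq _ d (fun j i => r j (e i)) (fun j => ?_) fun i => ?_⟩
  · show secMap h𝔛.1 (𝟙 T) W _ = 0
    have h1 : φ (r j) = 0 := LinearMap.mem_ker.1 (hr ▸ Submodule.subset_span ⟨j, rfl⟩)
    rw [secMap_id, ← h1, hφ, ← e.sum_comp]
    simp [f]
  · have := hd (e i)
    simpa using this

end Groth.Agent.H22.IndColim
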