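import Groth.Agent.H22.IndColim.Local
import Mathlib.CategoryTheory.Limits.Constructions.Filtered

/-!
# Colimits of ind-coherent modules are unions of coherent submodules (helper22)
-/

set_option autoImplicit false
set_option maxHeartbeats 1000000
set_option linter.style.haveILetI false

universe u

open CategoryTheory CategoryTheory.Limits AlgebraicGeometry TopologicalSpace Opposite
open Groth.Agent.H30 Groth.Agent.H30.RealLimSec Groth.Agent.Lib.EtMod
open CategoryTheory.Limits.CoproductsFromFiniteFiltered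

namespace Groth.Agent.H22.IndColim

variable {𝔛 : FSch.Sys.{u}} {h : 𝔛.IsFormal}

theorem secMap_finsetSum {F G : FSch.ModF 𝔛 h} {α : Type*} (t : Finset α) (φ : α → (F ⟶ G))
    (V : (𝔛.X 0).Opens) (x : sec h F V) :
    secMap h (∑ k ∈ t, φ k) V x = ∑ k ∈ t, secMap h (φ k) V x := by
  classical
  induction t using Finset.induction_on with
  | empty => rfl
  | insert k t hk ih =>
    rw [Finset.sum_insert hk, Finset.sum_insert hk, ← ih]
    rfl

theorem isIso_of_epi_mono {F G : FSch.ModF 𝔛 h} (φ : F ⟶ G) [Epi φ] [Mono φ] : IsIso φ :=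
  isIso_of_mono_of_epi φ

theorem exists_projections {α : Type u} [Fintype α] (X : α → FSch.ModF 𝔛 h) :
    ∃ p : ∀ k, (∐ X) ⟶ X k, ∀ (V : (𝔛.X 0).Opens) (x : sec h (∐ X) V),
      x = ∑ k, secMap h (Sigma.ι X k) V (secMap h (p k) V x) := by
  classical
  let p : ∀ k, (∐ X) ⟶ X k := fun k =>
    Sigma.desc fun l => if e : l = k then eqToHom (congrArg X e) else 0
  have hid : ∑ k, p k ≫ Sigma.ι X k = 𝟙 (∐ X) := by
    refine Sigma.hom_ext _ _ fun l => ?_
    rw [Preadditive.comp_sum, Category.comp_id, Finset.sum_eq_single l]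
    · simp [p]
    · intro k _ hk
      simp [p, dif_neg (Ne.symm hk)]
    · exact fun hl => absurd (Finset.mem_univ l) hl
  exact ⟨p, fun V x =>
    ((congrArg (fun φ => secMap h φ V x) hid).symm.trans (secMap_finsetSum _ _ V x))⟩

theorem finite_coproduct {α : Type u} [Fintype α] (X : α → FSch.ModF 𝔛 h)
    (hg : ∀ k, Gen (X k)) (hq : ∀ k, Q (𝟙 (X k))) : Gen (∐ X) ∧ Q (𝟙 (∐ X)) := by
  obtain ⟨p, hsum⟩ := exists_projections X
  exact ⟨Gen.of_projections p (Sigma.ι X) hg hsum, Q.of_projections p (Sigma.ι X) hq hsum⟩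

theorem mem_span_range_rv {W V : (𝔛.X 0).Opens} (e : V ≤ W) {ι : Type} {m : ℕ}
    (d : Fin m → Levels.A 𝔛 h W) (r : Fin m → ι → Levels.A 𝔛 h W) :
    rv h e (∑ j, d j • r j) ∈
      Submodule.span (Levels.A 𝔛 h V) (Set.range fun j => rv h e (r j)) := by
  have h1 : rv h e (∑ j, d j • r j) = ∑ j, CohPres.resA h e (d j) • rv h e (r j) := funext fun i => by
    show CohPres.resA h e ((∑ j, d j • r j) i) = _
    simp only [Finset.sum_apply, Pi.smul_apply, smul_eq_mul, map_sum, map_mul]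
  rw [h1]
  exact Submodule.sum_mem _ fun j _ => Submodule.smul_mem _ _ (Submodule.subset_span ⟨j, rfl⟩)

/-- The properties pass to filtered colimits. -/
theorem filtered_colimit [IsLocallyNoetherian (𝔛.X 0)] {J : Type u} [SmallCategory J] [IsFiltered J]
    {D : J ⥤ FSch.ModF 𝔛 h} (c : Cocone D) (hc : IsColimit c)
    (hg : ∀ j, Gen (D.obj j)) (hq : ∀ j, Q (𝟙 (D.obj j))) : Gen c.pt ∧ Q (𝟙 c.pt) := by
  classical
  haveI : QuasiSeparatedSpace (𝔛.X 0) := inferInstance
  haveI : PreservesColimitsOfSize.{u, u} (SheafOfModules.toSheaf.{u} (ModSite.ringSh (𝔛.Osh h))) :=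
    inferInstance
  let hc' := isColimitOfPreserves (SheafOfModules.toSheaf.{u} (ModSite.ringSh (𝔛.Osh h))) hc
  let κ : ∀ i, D.obj i ⟶ c.pt := fun i => c.ι.app i
  have hw : ∀ {i k : J} (a : i ⟶ k) (V : (𝔛.X 0).Opens) (t : sec h (D.obj i) V),
      secMap h (κ k) V (secMap h (D.map a) V t) = secMap h (κ i) V t :=
    fun a V t => congrArg (fun φ => secMap h φ V t) (c.w a)
  refine ⟨fun W hW Z hZ s z hz => ?_, fun W hW ι _ b Z hZ q hq0 z hz => ?_⟩
  · obtain ⟨V, hV, hzV, hVZ⟩ := Opens.isBasis_iff_nbhd.1 (CohPres.isBasis_affine (𝔛.X 0)) hz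
    obtain ⟨i, t, ht⟩ := ColimCoh.Sections.exists_rep hc' hV.isCompact (CohPres.resF h c.pt hVZ s)
    have ht' : secMap h (κ i) V t = CohPres.resF h c.pt hVZ s := ht
    obtain ⟨V', hVV, hzV', hm⟩ := hg i W hW V (hVZ.trans hZ) t z hzV
    refine ⟨V', hVV.trans hVZ, hzV', ?_⟩
    have h1 := secMap_mem_span (κ i) ((hVV.trans hVZ).trans hZ) hm
    rwa [secMap_res, ht', resF_resF] at h1
  · rw [secMap_id] at hq0
    obtain ⟨V, hV, hzV, hVZ⟩ := Opens.isBasis_iff_nbhd.1 (CohPres.isBasis_affine (𝔛.X 0)) hz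
    choose i₀ t₀ ht₀ using fun l : ι =>
      ColimCoh.Sections.exists_rep hc' hW.isCompact (b l)
    obtain ⟨i, hi⟩ := IsFiltered.sup_objs_exists (Finset.univ.image i₀)
    let t : ι → sec h (D.obj i) W := fun l =>
      secMap h (D.map (hi (Finset.mem_image_of_mem i₀ (Finset.mem_univ l))).some) W (t₀ l)
    have ht : ∀ l, secMap h (κ i) W (t l) = b l := fun l => by
      rw [hw]
      exact ht₀ l
    have h2 : secMap h (κ i) V
        (∑ l, CohPres.resA h hVZ (q l) • CohPres.resF h _ (hVZ.trans hZ) (t l)) = 0 := by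
      rw [map_sum]
      simp only [map_smul, secMap_res, ht]
      rw [← sum_res_res hZ hVZ, hq0, map_zero]
    obtain ⟨k, a, hk⟩ := ColimCoh.Sections.exists_eq_zero hc' hV.isCompact i _ h2
    have hk' : secMap h (D.map a) V
        (∑ l, CohPres.resA h hVZ (q l) • CohPres.resF h _ (hVZ.trans hZ) (t l)) = 0 := hk
    rw [map_sum] at hk'
    simp only [map_smul, secMap_res] at hk'
    obtain ⟨V', hVV, hzV', hm⟩ := hq k W hW ι (fun l => secMap h (D.map a) W (t l)) V (hVZ.trans hZ)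
      (rv h hVZ q) hk' z hzV
    obtain ⟨n, d, r, hr, hd⟩ := exists_of_mem_span ((hVV.trans hVZ).trans hZ) hm
    refine ⟨V', hVV.trans hVZ, hzV', mem_span_of_eq _ d r (fun j => ?_) fun l => ?_⟩
    · show secMap h (𝟙 _) W _ = 0
      have h3 := congrArg (secMap h (κ k) W) (show secMap h (𝟙 (D.obj k)) W _ = 0 from hr j)
      rw [secMap_id, map_zero, map_sum] at h3
      simp only [map_smul, hw, ht] at h3
      exact h3
    · exact (resA_resA hVZ hVV (q l)).symm.trans (hd l)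

/-- The properties pass to coproducts. -/
theorem coproduct [IsLocallyNoetherian (𝔛.X 0)] {α : Type u} (X : α → FSch.ModF 𝔛 h) (hg : ∀ k, Gen (X k))
    (hq : ∀ k, Q (𝟙 (X k))) : Gen (∐ X) ∧ Q (𝟙 (∐ X)) := by
  classical
  exact filtered_colimit (finiteSubcoproductsCocone X) (isColimitFiniteSubproductsCocone X)
    (fun S => (finite_coproduct (fun x : S => X x.1.as) (fun x => hg x.1.as) fun x => hq x.1.as).1)
    fun S => (finite_coproduct (fun x : S => X x.1.as) (fun x => hg x.1.as) fun x => hq x.1.as).2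

variable (h𝔛 : 𝔛.IsLocNoethFormal)

theorem of_ind {F : FSch.ModF 𝔛 h𝔛.1}
    (hF : (ObjectProperty.ind.{u} fun 𝔊 : FSch.ModF 𝔛 h𝔛.1 => FSch.IsCohF 𝔛 h𝔛.1 𝔊) F) :
    Gen F ∧ Q (𝟙 F) := by
  obtain ⟨J, _, _, pres, hp⟩ := hF
  haveI : IsLocallyNoetherian (𝔛.X 0) := h𝔛.2.2 0
  exact filtered_colimit pres.cocone pres.isColimit (fun j => gen_coh h𝔛 (hp j))
    fun j => q_coh h𝔛 (hp j)

/-- Images of finite families of coherent modules are coherent. -/
theorem isCohF_image {α : Type u} [Fintype α] (T : α → FSch.ModF 𝔛 h𝔛.1)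
    (hT : ∀ k, FSch.IsCohF 𝔛 h𝔛.1 (T k)) {P L : FSch.ModF 𝔛 h𝔛.1} (π : P ⟶ L) (hπ : Q π)
    (χ : ∀ k, T k ⟶ P) : FSch.IsCohF 𝔛 h𝔛.1 (image (Sigma.desc fun k => χ k ≫ π)) := by
  classical
  let ψ : (∐ T) ⟶ L := Sigma.desc fun k => χ k ≫ π
  obtain ⟨p, hp⟩ := exists_projections T
  refine PresSh.isFinitePresentation_of_isPres fun x => ?_
  obtain ⟨W, hW, hxW⟩ := CohCons.exists_affine (𝔛 := 𝔛) x
  choose n f hf using fun k => CohCons.exists_fin_gens h𝔛 hW (hT k)
  let e := (Fintype.equivFin (Σ k, Fin (n k))).symm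
  let g : Fin (Fintype.card (Σ k, Fin (n k))) → sec h𝔛.1 (image ψ) W := fun q =>
    secMap h𝔛.1 (Sigma.ι T (e q).1 ≫ factorThruImage ψ) W (f (e q).1 (e q).2)
  let b : Fin (Fintype.card (Σ k, Fin (n k))) → sec h𝔛.1 P W := fun q =>
    secMap h𝔛.1 (χ (e q).1) W (f (e q).1 (e q).2)
  have hgb : ∀ q, secMap h𝔛.1 (image.ι ψ) W (g q) = secMap h𝔛.1 π W (b q) := fun q => by
    refine congrArg (fun φ : T (e q).1 ⟶ L => secMap h𝔛.1 φ W (f (e q).1 (e q).2))
      (?_ : (Sigma.ι T (e q).1 ≫ factorThruImage ψ) ≫ image.ι ψ = χ (e q).1 ≫ π)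
    show (Sigma.ι T (e q).1 ≫ factorThruImage ψ) ≫ image.ι ψ = χ (e q).1 ≫ π
    rw [Category.assoc, image.fac]
    exact Sigma.ι_desc _ _
  have hsum : ∀ {V : (𝔛.X 0).Opens} (e' : V ≤ W) (c : Fin (Fintype.card (Σ k, Fin (n k))) → Levels.A 𝔛 h𝔛.1 V),
      secMap h𝔛.1 (image.ι ψ) V (∑ q, c q • CohPres.resF h𝔛.1 _ e' (g q)) =
        secMap h𝔛.1 π V (∑ q, c q • CohPres.resF h𝔛.1 P e' (b q)) := fun e' c => by
    simp only [map_sum, map_smul, secMap_res, hgb]
  haveI := Levels.isNoetherianRing_A h𝔛 hW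
  let φ : (Fin (Fintype.card (Σ k, Fin (n k))) → Levels.A 𝔛 h𝔛.1 W) →ₗ[Levels.A 𝔛 h𝔛.1 W]
      sec h𝔛.1 L W := (secMap h𝔛.1 π W).comp (Fintype.linearCombination _ b)
  obtain ⟨m, r, hr⟩ := Submodule.fg_iff_exists_fin_generating_family.1
    (IsNoetherian.noetherian (LinearMap.ker φ))
  refine ⟨W, _, m, g, r, hxW, PresSh.IsPres.of_basis (M := image ψ) {V | IsAffineOpen V}
    (CohPres.isBasis_affine (𝔛.X 0)) (fun j => ?_) (fun V hV hVW s z hz => ?_)
    fun V hV hVW c hc z hz => ?_⟩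
  · refine CohCons.secMap_injective (image.ι ψ) W ?_
    have h1 : φ (r j) = 0 := LinearMap.mem_ker.1 (hr ▸ Submodule.subset_span ⟨j, rfl⟩)
    rw [map_zero, ← h1]
    show _ = secMap h𝔛.1 π W (Fintype.linearCombination _ b (r j))
    rw [Fintype.linearCombination_apply]
    refine (map_sum (secMap h𝔛.1 (image.ι ψ) W) _ _).trans ?_
    rw [map_sum]
    refine Finset.sum_congr rfl fun q _ => ?_
    exact (map_smul (secMap h𝔛.1 (image.ι ψ) W) _ _).trans
      ((congrArg (r j q • ·) (hgb q)).trans (map_smul (secMap h𝔛.1 π W) _ _).symm)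
  · obtain ⟨U₁, hU₁V, t, hzU₁, ht⟩ := exists_preimage (factorThruImage ψ) s hz
    obtain ⟨U, hU, hzU, hUU⟩ := Opens.isBasis_iff_nbhd.1 (CohPres.isBasis_affine (𝔛.X 0)) hzU₁
    have hUW : U ≤ W := hUU.trans (hU₁V.trans hVW)
    choose a ha using fun k => CohExact.gen_of_le h𝔛 (hT k) hW (f k) (hf k) hU hUW
      (secMap h𝔛.1 (p k) U (CohPres.resF h𝔛.1 _ hUU t))
    refine ⟨U, hUU.trans hU₁V, hzU, fun q => a (e q).1 (e q).2, ?_⟩
    show CohPres.resF h𝔛.1 (image ψ) _ s = ∑ q, _ • CohPres.resF h𝔛.1 (image ψ) hUW (g q)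
    rw [← resF_resF (image ψ) hU₁V hUU s, ← ht, ← secMap_res, hp U (CohPres.resF h𝔛.1 _ hUU t),
      e.sum_comp fun q => a q.1 q.2 • CohPres.resF h𝔛.1 (image ψ) hUW
        (secMap h𝔛.1 (Sigma.ι T q.1 ≫ factorThruImage ψ) W (f q.1 q.2)),
      Fintype.sum_sigma, map_sum]
    refine Finset.sum_congr rfl fun k _ => ?_
    rw [ha k]
    simp only [map_sum, map_smul, ← secMap_res, secMap_comp]
  · have h1 : secMap h𝔛.1 π V (∑ q, c q • CohPres.resF h𝔛.1 P hVW (b q)) = 0 := by
      exact (hsum hVW c).symm.trans ((congrArg _ hc).trans (map_zero _))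
    obtain ⟨U, hUV, hzU, hm⟩ := hπ W hW _ b V hVW c h1 z hz
    have hle : Submodule.span (Levels.A 𝔛 h𝔛.1 U) (rv h𝔛.1 (hUV.trans hVW) '' Rel π b) ≤
        Submodule.span (Levels.A 𝔛 h𝔛.1 U) (Set.range fun j => rv h𝔛.1 (hUV.trans hVW) (r j)) := by
      rw [Submodule.span_le]
      rintro _ ⟨a, ha, rfl⟩
      have ha' : a ∈ LinearMap.ker φ := by
        rw [LinearMap.mem_ker]
        show secMap h𝔛.1 π W (Fintype.linearCombination _ b a) = 0
        rw [Fintype.linearCombination_apply]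
        exact ha
      rw [← hr, Submodule.mem_span_range_iff_exists_fun] at ha'
      obtain ⟨d, rfl⟩ := ha'
      exact mem_span_range_rv (hUV.trans hVW) d r
    obtain ⟨d, hd⟩ := (Submodule.mem_span_range_iff_exists_fun _).1 (hle hm)
    refine ⟨U, hUV, hzU, d, fun i => ?_⟩
    have := congrFun hd i
    rw [Finset.sum_apply] at this
    exact this.symm

/-- A module exhausted by coherent images is the union of coherent submodules. -/
theorem exists_presentation {K : Type u} (T : K → FSch.ModF 𝔛 h𝔛.1)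
    (hT : ∀ k, FSch.IsCohF 𝔛 h𝔛.1 (T k)) {P L : FSch.ModF 𝔛 h𝔛.1} (π : P ⟶ L) (hπ : Q π)
    (χ : ∀ k, T k ⟶ P)
    (hjoint : ∀ {Z : FSch.ModF 𝔛 h𝔛.1} (a b : L ⟶ Z),
      (∀ k, (χ k ≫ π) ≫ a = (χ k ≫ π) ≫ b) → a = b) :
    ∃ (J : Type u) (_ : SmallCategory J) (_ : IsFiltered J) (pres : ColimitPresentation J L),
      (∀ j : J, FSch.IsCohF 𝔛 h𝔛.1 (pres.diag.obj j)) ∧ ∀ j : J, Mono (pres.ι.app j) := by
  classical
  haveI : IsLocallyNoetherian (𝔛.X 0) := h𝔛.2.2 0
  haveI : QuasiSeparatedSpace (𝔛.X 0) := inferInstance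
  let ψ : ∀ S : Finset K, (∐ fun k : S => T k.1) ⟶ L := fun S => Sigma.desc fun k => χ k.1 ≫ π
  let incl : ∀ {S S' : Finset K}, S ≤ S' → ((∐ fun k : S => T k.1) ⟶ ∐ fun k : S' => T k.1) :=
    fun {S S'} e => Sigma.desc fun k : S => Sigma.ι (fun k : S' => T k.1) ⟨k.1, e k.2⟩
  have hincl : ∀ {S S' : Finset K} (e : S ≤ S'), incl e ≫ ψ S' = ψ S := fun e =>
    Sigma.hom_ext _ _ fun k => by simp [incl, ψ]
  let fac : ∀ {S S' : Finset K}, S ≤ S' → MonoFactorisation (ψ S) := fun {S S'} e =>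
    { I := image (ψ S')
      m := image.ι (ψ S')
      e := incl e ≫ factorThruImage (ψ S')
      fac := by rw [Category.assoc, image.fac, hincl] }
  have hfac : ∀ {S S' : Finset K} (e : S ≤ S'), image.lift (fac e) ≫ image.ι (ψ S') = image.ι (ψ S) :=
    fun e => image.lift_fac (fac e)
  let D : Finset K ⥤ FSch.ModF 𝔛 h𝔛.1 :=
    { obj := fun S => image (ψ S)
      map := fun a => image.lift (fac (leOfHom a))
      map_id := fun S => (cancel_mono (image.ι (ψ S))).1 (by rw [hfac, Category.id_comp])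
      map_comp := fun {_ _ S''} a b => (cancel_mono (image.ι (ψ S''))).1 (by
        rw [Category.assoc, hfac, hfac, hfac]) }
  let c : Cocone D :=
    { pt := L
      ι :=
        { app := fun S => image.ι (ψ S)
          naturality := fun S S' a => (hfac (leOfHom a)).trans (Category.comp_id _).symm } }
  haveI : PreservesColimitsOfSize.{u, u} (SheafOfModules.toSheaf.{u} (ModSite.ringSh (𝔛.Osh h𝔛.1))) :=
    inferInstance
  let hc' := isColimitOfPreserves (SheafOfModules.toSheaf.{u} (ModSite.ringSh (𝔛.Osh h𝔛.1)))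
    (colimit.isColimit D)
  let d : colimit D ⟶ L := colimit.desc D c
  haveI : Mono d := by
    refine CohCons.mono_of_injective d fun V => ?_
    rw [← LinearMap.ker_eq_bot, LinearMap.ker_eq_bot']
    intro x hx
    obtain ⟨S, t, ht⟩ := ColimCoh.Sections.exists_rep hc' V.2.isCompact x
    have ht' : secMap h𝔛.1 (colimit.ι D S) V.1 t = x := ht
    rw [← ht', ← secMap_comp, show colimit.ι D S ≫ d = image.ι (ψ S) from colimit.ι_desc c S] at hx
    have ht0 : t = 0 := CohCons.secMap_injective (image.ι (ψ S)) V.1 (hx.trans (map_zero _).symm)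
    exact ht'.symm.trans ((congrArg _ ht0).trans (map_zero _))
  haveI : Epi d := ⟨fun a b hab => hjoint a b fun k => by
    have h1 : Sigma.ι (fun k' : ({k} : Finset K) => T k'.1) ⟨k, Finset.mem_singleton_self k⟩ ≫
        factorThruImage (ψ {k}) ≫ colimit.ι D {k} ≫ d = χ k ≫ π := by
      rw [show colimit.ι D {k} ≫ d = image.ι (ψ {k}) from colimit.ι_desc c {k}, image.fac]
      exact Sigma.ι_desc _ _
    rw [← h1]
    simp only [Category.assoc, hab]⟩
  haveI : IsIso d := isIso_of_epi_mono d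
  refine ⟨Finset K, inferInstance, inferInstance,
    { diag := D
      ι := c.ι
      isColimit := IsColimit.ofIsoColimit (colimit.isColimit D)
        (Cocone.ext (asIso d) fun S => colimit.ι_desc c S) },
    fun S => isCohF_image h𝔛 (fun k : S => T k.1) (fun k => hT k.1) π hπ fun k => χ k.1,
    fun S => inferInstanceAs (Mono (image.ι (ψ S)))⟩

/-- Colimits of ind-coherent modules are ind-coherent. -/
theorem isClosedUnderColimitsOfShape (J : Type u) [SmallCategory J] :
    (ObjectProperty.ind.{u} fun 𝔊 : FSch.ModF 𝔛 h𝔛.1 =>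
      FSch.IsCohF 𝔛 h𝔛.1 𝔊).IsClosedUnderColimitsOfShape J where
  colimitsOfShape_le := by
    rintro L ⟨hL⟩
    let D := hL.diag
    haveI : IsLocallyNoetherian (𝔛.X 0) := h𝔛.2.2 0
    have hD := fun j => of_ind h𝔛 (hL.prop_diag_obj j)
    obtain ⟨hgA, -⟩ := coproduct (fun a : (Σ i j : J, i ⟶ j) => D.obj a.1)
      (fun a => (hD a.1).1) fun a => (hD a.1).2
    obtain ⟨-, hqP⟩ := coproduct D.obj (fun j => (hD j).1) fun j => (hD j).2
    let ψ : (∐ fun a : (Σ i j : J, i ⟶ j) => D.obj a.1) ⟶ ∐ D.obj :=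
      Sigma.desc fun a => Sigma.ι D.obj a.1 - D.map a.2.2 ≫ Sigma.ι D.obj a.2.1
    let q : (∐ D.obj) ⟶ L := Sigma.desc fun j => hL.ι.app j
    have hψq : ψ ≫ q = 0 := Sigma.hom_ext _ _ fun a => by
      have := hL.cocone.w a.2.2
      simp only [ψ, q, Sigma.ι_desc_assoc, Preadditive.sub_comp, Category.assoc, Sigma.ι_desc,
        comp_zero, sub_eq_zero]
      exact this.symm
    let s : Cocone D :=
      { pt := cokernel ψ
        ι :=
          { app := fun j => Sigma.ι D.obj j ≫ cokernel.π ψ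
            naturality := fun i j a => by
              have h1 := congrArg (fun φ => Sigma.ι (fun a : (Σ i j : J, i ⟶ j) => D.obj a.1) ⟨i, j, a⟩ ≫ φ)
                (cokernel.condition ψ)
              simp only [ψ, Sigma.ι_desc_assoc, Preadditive.sub_comp, Category.assoc, comp_zero,
                sub_eq_zero] at h1
              exact h1.symm.trans (Category.comp_id _).symm } }
    let e : cokernel ψ ⟶ L := cokernel.desc ψ q hψq
    haveI : IsIso e := by
      refine ⟨hL.isColimit.desc s, ?_, ?_⟩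
      · refine coequalizer.hom_ext (Sigma.hom_ext _ _ fun j => ?_)
        simp only [e, Category.comp_id]
        rw [cokernel.π_desc_assoc]
        simp only [q, Sigma.ι_desc_assoc]
        exact hL.isColimit.fac s j
      · refine hL.isColimit.hom_ext fun j => ?_
        rw [hL.isColimit.fac_assoc, Category.comp_id]
        simp [e, s, q]
    choose I _ _ pres hp using hL.prop_diag_obj
    obtain ⟨K, hK, hK', p', hp', -⟩ := exists_presentation h𝔛 (K := Σ j, I j)
      (fun k => (pres k.1).diag.obj k.2) (fun k => hp k.1 k.2) (cokernel.π ψ ≫ e)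
      ((Q.cokernel hgA hqP ψ).comp_mono e) (fun k => (pres k.1).ι.app k.2 ≫ Sigma.ι D.obj k.1)
      fun a b hab => hL.isColimit.hom_ext fun j => (pres j).isColimit.hom_ext fun i => by
        have h1 := hab ⟨j, i⟩
        simp only [e, q, Category.assoc, cokernel.π_desc_assoc, Sigma.ι_desc_assoc] at h1
        exact h1
    exact ⟨K, hK, hK', p', hp'⟩

end Groth.Agent.H22.IndColim
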